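import Cfsg.Agent.RuAut.Vec

set_option autoImplicit false

/-! The offset as a literal. -/

namespace Cfsg.Agent.RuAut

/-- the offset -/
def offN : ℕ := 0x820820820820820820820820820820820820820820820820820820820820820820820820820820820820

theorem offN_eq : offN = ∑ q ∈ Finset.range 56, 32 * 64 ^ q := by decide +kernel

end Cfsg.Agent.RuAut
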