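import Mathlib

set_option autoImplicit false

/-! Bit strings as numbers. -/

namespace Cfsg.Agent.RuAut

/-- number of set bits below `4 * n`, by nibbles -/
noncomputable def pcN (n : ℕ) : ℕ → ℕ :=
  Nat.rec (fun _ => 0) (fun _ ih w => Nat.add
    (Nat.land (Nat.shiftRight 0x4332322132212110 (Nat.mul 4 (Nat.land w 15))) 15)
    (ih (Nat.shiftRight w 4))) n

theorem pcN_zero (w : ℕ) : pcN 0 w = 0 := rfl

theorem pcN_succ (n w : ℕ) :
    pcN (n + 1) w = ((0x4332322132212110 >>> (4 * (w &&& 15))) &&& 15) + pcN n (w >>> 4) := rfl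

/-- number of set bits below 56 -/
noncomputable def pc (w : ℕ) : ℕ := pcN 14 w

theorem sum_range_four_mul (f : ℕ → ℕ) : ∀ n, ∑ q ∈ Finset.range (4 * n), f q =
    ∑ k ∈ Finset.range n, (f (4 * k) + f (4 * k + 1) + f (4 * k + 2) + f (4 * k + 3))
  | 0 => by simp
  | n + 1 => by
    rw [show 4 * (n + 1) = 4 * n + 1 + 1 + 1 + 1 by omega, Finset.sum_range_succ,
      Finset.sum_range_succ, Finset.sum_range_succ, Finset.sum_range_succ, sum_range_four_mul f n,
      Finset.sum_range_succ]
    ring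

theorem nibble_ok : ∀ v < 16, (0x4332322132212110 >>> (4 * v)) &&& 15 =
    (v.testBit 0).toNat + (v.testBit 1).toNat + (v.testBit 2).toNat + (v.testBit 3).toNat := by
  decide +kernel

theorem pcN_eq : ∀ n w, pcN n w = ∑ q ∈ Finset.range (4 * n), (w.testBit q).toNat
  | 0, w => by simp [pcN_zero]
  | n + 1, w => by
    rw [pcN_succ, pcN_eq n (w >>> 4), sum_range_four_mul, sum_range_four_mul, Finset.sum_range_succ']
    have hv : w &&& 15 < 16 := lt_of_le_of_lt Nat.and_le_right (by norm_num)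
    rw [nibble_ok _ hv, Nat.add_comm]
    congr 1
    · refine Finset.sum_congr rfl fun k _ => ?_
      simp only [Nat.testBit_shiftRight]
      ring_nf
    · have h : ∀ i < 4, (w &&& 15).testBit i = w.testBit i := fun i hi => by
        rw [Nat.testBit_and, show (15 : ℕ).testBit i = true from
          (by decide : ∀ i < 4, (15 : ℕ).testBit i = true) i hi, Bool.and_true]
      rw [h 0 (by omega), h 1 (by omega), h 2 (by omega), h 3 (by omega)]

theorem pc_eq (w : ℕ) : pc w = ∑ q ∈ Finset.range 56, (w.testBit q).toNat := pcN_eq 14 w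

theorem pc_eq_countP (w : ℕ) : pc w = (List.range 56).countP (w.testBit ·) := by
  rw [pc_eq]
  suffices ∀ n, ∑ q ∈ Finset.range n, (w.testBit q).toNat = (List.range n).countP (w.testBit ·) from
    this 56
  intro n
  induction n with
  | zero => simp
  | succ n ih =>
    rw [Finset.sum_range_succ, List.range_succ, List.countP_append, ← ih]
    cases h : w.testBit n <;> simp [h]

/-- one folding step -/
def foldStep (n w : ℕ) : ℕ := Nat.xor w (Nat.shiftRight w n)

/-- folding -/
def fold4 (w : ℕ) : ℕ := Nat.land (foldStep 4 (foldStep 8 (foldStep 16 w))) 15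

theorem foldStep_eq (n w : ℕ) : foldStep n w = w ^^^ w >>> n := rfl

theorem fold4_eq (w : ℕ) : fold4 w = foldStep 4 (foldStep 8 (foldStep 16 w)) &&& 15 := rfl

/-- parity of a number below 2^32 -/
def par (w : ℕ) : Bool := Nat.beq (Nat.land (Nat.shiftRight 0x6996 (fold4 w)) 1) 1

theorem par_eq (w : ℕ) : par w = Nat.beq ((0x6996 >>> fold4 w) &&& 1) 1 := rfl

theorem fold4_xor (a b : ℕ) : fold4 (a ^^^ b) = fold4 a ^^^ fold4 b := by
  have aux : ∀ n x y : ℕ, (x ^^^ y) ^^^ (x ^^^ y) >>> n = (x ^^^ x >>> n) ^^^ (y ^^^ y >>> n) :=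
    fun n x y => by
      rw [Nat.shiftRight_xor_distrib, Nat.xor_assoc, Nat.xor_assoc, Nat.xor_left_comm y]
  simp only [fold4_eq, foldStep_eq, aux, Nat.and_xor_distrib_right]

theorem nibble_par : ∀ u < 16, ∀ v < 16, Nat.beq ((0x6996 >>> (u ^^^ v)) &&& 1) 1 =
    xor (Nat.beq ((0x6996 >>> u) &&& 1) 1) (Nat.beq ((0x6996 >>> v) &&& 1) 1) := by decide +kernel

theorem par_xor (a b : ℕ) : par (a ^^^ b) = xor (par a) (par b) := by
  rw [par_eq, par_eq, par_eq, fold4_xor]
  exact nibble_par _ (lt_of_le_of_lt Nat.and_le_right (by norm_num)) _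
    (lt_of_le_of_lt Nat.and_le_right (by norm_num))

theorem par_zero : par 0 = false := by decide +kernel

/-- xor of a family over a list -/
def xorL (f : ℕ → ℕ) (l : List ℕ) : ℕ := (l.map f).foldr (· ^^^ ·) 0

theorem xorL_nil (f : ℕ → ℕ) : xorL f [] = 0 := rfl

theorem xorL_cons (f : ℕ → ℕ) (a : ℕ) (l : List ℕ) : xorL f (a :: l) = f a ^^^ xorL f l := rfl

theorem xorL_perm (f : ℕ → ℕ) {l l' : List ℕ} (h : l.Perm l') : xorL f l = xorL f l' := by
  induction h with
  | nil => rfl
  | cons a _ ih => simp [xorL_cons, ih]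
  | swap a b l => simp [xorL_cons, ← Nat.xor_assoc, Nat.xor_comm (f a) (f b)]
  | trans _ _ h1 h2 => exact h1.trans h2

theorem xorL_append (f : ℕ → ℕ) : ∀ l l' : List ℕ, xorL f (l ++ l') = xorL f l ^^^ xorL f l'
  | [], l' => by simp [xorL_nil]
  | a :: l, l' => by simp [xorL_cons, xorL_append f l l', Nat.xor_assoc]

theorem par_xorL (f : ℕ → ℕ) (m : ℕ) : ∀ l : List ℕ, (∀ q ∈ l, par (m &&& f q) = false) →
    par (m &&& xorL f l) = false
  | [], _ => by simp [xorL_nil, par_zero]
  | a :: l, h => by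
    rw [xorL_cons, Nat.and_xor_distrib_left, par_xor, h a (by simp),
      par_xorL f m l fun q hq => h q (by simp [hq])]
    rfl

theorem xorL_lt (f : ℕ → ℕ) (k : ℕ) : ∀ l : List ℕ, (∀ q ∈ l, f q < 2 ^ k) → xorL f l < 2 ^ k
  | [], _ => by simp [xorL_nil]
  | a :: l, h => by
    rw [xorL_cons]
    exact Nat.xor_lt_two_pow (h a (by simp)) (xorL_lt f k l fun q hq => h q (by simp [hq]))

theorem testBit_xorL (f : ℕ → ℕ) (j : ℕ) : ∀ l : List ℕ,
    ((xorL f l).testBit j).toNat = (l.map fun q => ((f q).testBit j).toNat).sum % 2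
  | [] => by simp [xorL_nil]
  | a :: l => by
    rw [xorL_cons, Nat.testBit_xor, List.map_cons, List.sum_cons, Nat.add_mod]
    have := testBit_xorL f j l
    revert this
    cases (f a).testBit j <;> cases (xorL f l).testBit j <;> simp <;> omega

/-- a list enumerates the set bits -/
def remBits : List ℕ → ℕ → Bool
  | [], w => Nat.beq w 0
  | q :: l, w => w.testBit q && remBits l (w ^^^ 2 ^ q)

theorem remBits_spec : ∀ {l : List ℕ} {w : ℕ}, remBits l w = true →
    l.Nodup ∧ ∀ q, q ∈ l ↔ w.testBit q = true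
  | [], w, h => by
    obtain rfl : w = 0 := Nat.eq_of_beq_eq_true h
    simp
  | a :: l, w, h => by
    simp only [remBits, Bool.and_eq_true] at h
    obtain ⟨h1, h2⟩ := remBits_spec h.2
    refine ⟨List.nodup_cons.2 ⟨fun ha => ?_, h1⟩, fun q => ?_⟩
    · have := (h2 a).1 ha
      simp [Nat.testBit_xor, Nat.testBit_two_pow, h.1] at this
    · rw [List.mem_cons, h2 q]
      by_cases hq : q = a
      · subst hq; simp [h.1]
      · simp [hq, Nat.testBit_xor, Nat.testBit_two_pow, Ne.symm hq]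

end Cfsg.Agent.RuAut
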