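import Cfsg.Agent.RuAut.Scan

set_option autoImplicit false

/-! Elements of order 29 modulo scalars. -/

namespace Cfsg.Agent.RuAut

/-- a word repeated -/
def rep : ℕ → List ℕ → List ℕ
  | 0, _ => []
  | n + 1, w => w ++ rep n w

/-- the 29th power acts as one scalar on the five base vectors -/
noncomputable def pow29 (w : List ℕ) : Bool :=
  w.all (fun g => Nat.blt g 8) && (List.range 4).any fun k =>
    (List.range 5).all fun j => Nat.beq (imgW (rep 29 w) (bK j)) (rotPow k (bK j))

theorem words_ok : (oddWords.all fun e => pow29 e.1 && e.2.all fun g => pow29 (g :: e.1)) = true := by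
  decide +kernel

theorem words_cover : ∀ g < 8, ∃ e ∈ oddWords, g ∈ e.2 := by decide +kernel

end Cfsg.Agent.RuAut
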