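import Cfsg.Agent.RuAut.Chain
import Cfsg.Agent.RuAut.CheckWords

set_option autoImplicit false

/-! The centre and the quotient. -/

open Cfsg.Spor

namespace Cfsg.Agent.RuAut

open RuLat

theorem ruI_four (v : ruLattice) : ruI (ruI (ruI (ruI v))) = v :=
  Subtype.ext (by simp only [coe_ruI]; exact iMul_four _)

theorem ruI_add (v w : ruLattice) : ruI (v + w) = ruI v + ruI w :=
  Subtype.ext (by simp only [coe_ruI, AddSubgroup.coe_add]; exact iMul_add _ _)

/-- multiplication by i as an automorphism -/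
def zI : fourRu :=
  ⟨⟨ruI, fun v => ruI (ruI (ruI v)), ruI_four, ruI_four⟩, ruI_add, fun _ => rfl, fun v => by
    rw [ruNorm_eq, ruNorm_eq]
    show dot (ruI v).1 (ruI v).1 = _
    rw [coe_ruI, dot_iMul]⟩

theorem zI_pow (v : ruLattice) : ∀ k : ℕ, (zI ^ k).1 v = iPow k v
  | 0 => rfl
  | k + 1 => by
    rw [pow_succ']
    show ruI ((zI ^ k).1 v) = _
    rw [zI_pow v k]; rfl

theorem zI_mem : zI ∈ Subgroup.center fourRu := by
  refine Subgroup.mem_center_iff.2 fun h => Subtype.ext (Equiv.ext fun v => ?_)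
  exact fourRu_ruI h v

theorem pow_mem_center (k : ℕ) : zI ^ k ∈ Subgroup.center fourRu := pow_mem zI_mem k

theorem line_distinct : ∀ a < 4, ∀ b < 4, rotPow a (bK 0) = rotPow b (bK 0) → a = b := by decide +kernel

theorem iPow_inj {a b : ℕ} (ha : a < 4) (hb : b < 4) (h : iPow a b0 = iPow b b0) : a = b :=
  line_distinct a ha b hb (by rw [← key_b0, rotPow_key b0_sh, rotPow_key b0_sh, h])

theorem exists_map {v : ruLattice} (hv : Sh16 v) : ∃ u : fourRu, u.1 b0 = v := by
  obtain ⟨u, -, e⟩ := reach_all hv.found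
  exact ⟨u, key_inj (b0_sh.map u) hv e⟩

theorem fixed_line {v : ruLattice} (hv : Sh16 v) (h : ∀ u ∈ genSet 6, u.1 v = v) :
    ∃ k < 4, v = iPow k b0 := by
  have := (s_all hv.found).2
  simp only [fixOk, Bool.or_eq_true] at this
  refine (lineB_iff hv).1 (this.resolve_right fun hm => ?_)
  obtain ⟨g, hg, hne⟩ := List.any_eq_true.1 hm
  have hg' := List.mem_range.1 hg
  rw [img_key (by omega) v hv, h _ (gE_mem hg')] at hne
  simp at hne

/-- an automorphism acting as one scalar on all short vectors is that scalar -/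
theorem eq_of_scalar {h : fourRu} {k : ℕ} (hh : ∀ j < 5, h.1 (fV j) = iPow k (fV j)) : h = zI ^ k := by
  have : (zI ^ k)⁻¹ * h ∈ fixG 5 := fun j hj => by
    show (zI ^ k).1.symm (h.1 (fV j)) = fV j
    rw [hh j hj, ← zI_pow, Equiv.symm_apply_apply]
  rw [fixG_five, Subgroup.mem_bot, inv_mul_eq_one] at this
  exact this.symm

theorem center_eq {z : fourRu} (hz : z ∈ Subgroup.center fourRu) : ∃ k < 4, z = zI ^ k := by
  have hcomm : ∀ (u : fourRu) (v : ruLattice), u.1 (z.1 v) = z.1 (u.1 v) := fun u v =>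
    congrArg (fun f : fourRu => f.1 v) (Subgroup.mem_center_iff.1 hz u)
  obtain ⟨k, hk, e⟩ := fixed_line (b0_sh.map z) fun u hu => by
    rw [hcomm, fix_b0 le_rfl (gen_le_fix (show 1 < 6 by norm_num) hu)]
  refine ⟨k, hk, eq_of_scalar fun j hj => ?_⟩
  obtain ⟨u, hu⟩ := exists_map (bV_sh hj)
  rw [← hu, ← hcomm, e, fourRu_iPow]

theorem zpowers_eq : Subgroup.zpowers zI = Subgroup.center fourRu := by
  refine le_antisymm (Subgroup.zpowers_le.2 zI_mem) fun z hz => ?_
  obtain ⟨k, -, rfl⟩ := center_eq hz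
  exact ⟨(k : ℤ), zpow_natCast zI k⟩

theorem card_center : Nat.card (Subgroup.center fourRu) = 4 := by
  rw [← zpowers_eq, Nat.card_zpowers, orderOf_eq_iff (by norm_num)]
  refine ⟨Subtype.ext (Equiv.ext fun v => by rw [zI_pow]; exact ruI_four v), fun m hm hm0 e => ?_⟩
  have := zI_pow b0 m
  rw [e] at this
  exact hm0.ne (iPow_inj (by norm_num : (0 : ℕ) < 4) hm this)

theorem card_ru : Nat.card Ru = 145926144000 := by
  have h := Subgroup.card_eq_card_quotient_mul_card_subgroup (Subgroup.center fourRu)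
  rw [card_fourRu, card_center] at h
  show Nat.card (fourRu ⧸ Subgroup.center fourRu) = _
  omega

/-- the product of generators along a word -/
noncomputable def wordE : List ℕ → fourRu
  | [] => 1
  | g :: w => gE g * wordE w

theorem wordE_append : ∀ a b : List ℕ, wordE (a ++ b) = wordE a * wordE b
  | [], b => by simp [wordE]
  | g :: a, b => by rw [List.cons_append, wordE, wordE, wordE_append a b, mul_assoc]

theorem wordE_rep (w : List ℕ) : ∀ n, wordE (rep n w) = wordE w ^ n
  | 0 => by simp [rep, wordE]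
  | n + 1 => by rw [rep, wordE_append, wordE_rep w n, pow_succ']

theorem imgW_key : ∀ (w : List ℕ) (v : ruLattice), (∀ g ∈ w, g < 8) → Sh16 v →
    imgW w (key v.1) = key ((wordE w).1 v).1
  | [], v, _, _ => rfl
  | g :: w, v, h, hv => by
    rw [imgW, imgW_key w v (fun a ha => h a (List.mem_cons_of_mem _ ha)) hv,
      img_key (h g (List.mem_cons_self ..)) _ (hv.map _)]
    rfl

theorem rep_mem {w : List ℕ} {g : ℕ} : ∀ n, g ∈ rep n w → g ∈ w
  | 0, h => by simp [rep] at h
  | n + 1, h => by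
    rw [rep, List.mem_append] at h
    exact h.elim id (rep_mem n)

theorem pow29_center {w : List ℕ} (h : pow29 w = true) :
    (∀ g ∈ w, g < 8) ∧ wordE w ^ 29 ∈ Subgroup.center fourRu := by
  simp only [pow29, Bool.and_eq_true, List.all_eq_true, List.any_eq_true, List.mem_range] at h
  obtain ⟨hlt, k, -, hk⟩ := h
  have hlt' : ∀ g ∈ w, g < 8 := fun g hg => lt_blt (hlt g hg)
  refine ⟨hlt', ?_⟩
  have hs : wordE (rep 29 w) = zI ^ k := eq_of_scalar fun j hj => ?_
  · rw [← wordE_rep, hs]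
    exact pow_mem_center k
  · refine key_inj ((bV_sh hj).map _) ((bV_sh hj).iPow k) ?_
    rw [← imgW_key _ _ (fun g hg => hlt' g (rep_mem 29 hg)) (bV_sh hj), bV_key hj,
      ← rotPow_key (bV_sh hj), bV_key hj]
    exact Nat.eq_of_beq_eq_true (hk j hj)

end Cfsg.Agent.RuAut
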