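import Cfsg.Agent.RuAut.Facts

set_option autoImplicit false

/-! The stabiliser chain of the automorphism group. -/

open Cfsg.Spor

namespace Cfsg.Agent.RuAut

open RuLat

/-- an automorphism fixing the first base vectors -/
def fixG (k : ℕ) : Subgroup fourRu where
  carrier := {h | ∀ j < k, h.1 (fV j) = fV j}
  one_mem' := fun _ _ => rfl
  mul_mem' := fun {a b} ha hb j hj => by
    show a.1 (b.1 (fV j)) = fV j
    rw [hb j hj, ha j hj]
  inv_mem' := fun {a} ha j hj => by
    show a.1.symm (fV j) = fV j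
    exact a.1.symm_apply_eq.2 (ha j hj).symm

theorem mem_fixG {k : ℕ} {h : fourRu} : h ∈ fixG k ↔ ∀ j < k, h.1 (fV j) = fV j := Iff.rfl

theorem fixG_succ_le (k : ℕ) : fixG (k + 1) ≤ fixG k := fun _ h j hj => h j (by omega)

theorem fixG_zero : fixG 0 = ⊤ := eq_top_iff.2 fun _ _ j hj => absurd hj (Nat.not_lt_zero j)

theorem lvGens_le : ∀ k < 6, lvGens.getD k 0 ≤ 8 := by decide +kernel

theorem lvGens_anti : ∀ k < 5, lvGens.getD (k + 1) 0 ≤ lvGens.getD k 0 := by decide +kernel

theorem genSet_mono {a b : ℕ} (h : a ≤ b) : genSet a ≤ genSet b :=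
  Subgroup.closure_mono fun _ ⟨g, hg, e⟩ => ⟨g, lt_of_lt_of_le hg h, e⟩

theorem gen_le_fix {k : ℕ} (hk : k < 6) : genSet (lvGens.getD k 0) ≤ fixG k := by
  rw [genSet, Subgroup.closure_le]
  rintro _ ⟨g, hg, rfl⟩ j hj
  have hg8 : g < 8 := lt_of_lt_of_le hg (lvGens_le k hk)
  have h := List.all_eq_true.1 (List.all_eq_true.1 gens_fix k (List.mem_range.2 hk)) g (List.mem_range.2 hg8)
  rw [blt_true hg] at h
  simp at h
  have hj5 : j < 5 := by omega
  obtain ⟨hs, e⟩ := fV_spec (show j < 28 by omega)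
  refine key_inj (hs.map _) hs ?_
  rw [← img_key hg8 _ hs, e, bK_eq hj5]
  exact h j hj

theorem one_all {x : ℕ} (h : 0 < c1Tab.find x) : oneOk x (c1Tab.find x - 1) = true :=
  (KTab.find_all one_ok h).elim fun _ e => e

theorem orth_all {x : ℕ} (h : 0 < orthTab.find x) : orthOk x (orthTab.find x - 1) = true :=
  (KTab.find_all orth_ok h).elim fun _ e => e

theorem base_facts : oneB (bK 2) = true ∧ oneB (bK 4) = true ∧ oneB (bK 1) = true ∧
    orthB (bK 3) = true ∧ orthB (bK 0) = false := by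
  have h := base_class
  simp only [Bool.and_eq_true, Bool.not_eq_true'] at h
  exact ⟨h.1.1.1.1.1.1.1.1.1, h.1.1.1.1.1.1.1.1.2, h.1.1.1.1.1.1.1.2, h.1.1.1.1.1.1.2, h.1.2⟩

theorem bV_key {k : ℕ} (hk : k < 5) : key (fV k).1 = bK k := by
  rw [(fV_spec (by omega)).2, bK_eq hk]

theorem bV_sh {k : ℕ} (hk : k < 5) : Sh16 (fV k) := (fV_spec (by omega)).1

/-- the first class -/
theorem one_found {v : ruLattice} (hv : Sh16 v) (h : Sig 1 1 v) : 0 < c1Tab.find (key v.1) := by
  have := (s_all hv.found).1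
  simp only [sOk, Bool.and_eq_true, Bool.or_eq_true, Bool.not_eq_true'] at this
  rcases this.1.2 with h' | h'
  · rw [oneB, ← Bool.not_eq_true, sigEq_iff (by norm_num) hv (by norm_num)] at h'
    exact absurd h h'
  · exact lt_blt h'

theorem orth_found {v : ruLattice} (hv : Sh16 v) (h : Orth v) : 0 < orthTab.find (key v.1) := by
  have := (s_all hv.found).1
  simp only [sOk, Bool.and_eq_true, Bool.or_eq_true, Bool.not_eq_true'] at this
  rcases this.1.1.2 with h' | h'
  · rw [← Bool.not_eq_true, orthB_iff hv] at h'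
    exact absurd h h'
  · exact lt_blt h'

theorem sig_one_of {n : ℕ} (hn : n < 28) (h : oneB (fK n) = true) : Sig 1 1 (fV n) := by
  rw [oneB, ← (fV_spec hn).2, sigEq_iff (by norm_num) (fV_spec hn).1 (by norm_num)] at h
  exact h

/-- an automorphism fixing the base fixes the rigid vectors -/
theorem fix_all {h : fourRu} (hh : h ∈ fixG 5) : ∀ n < 28, h.1 (fV n) = fV n := by
  intro n
  induction n using Nat.strong_induction_on with
  | _ n ih =>
    intro hn
    rcases lt_or_ge n 5 with h5 | h5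
    · exact hh n h5
    obtain ⟨j, rfl⟩ := Nat.exists_eq_add_of_le h5
    have hm := List.all_eq_true.1 fix_mem (5 + j) (List.mem_range.2 hn)
    simp only [Bool.and_eq_true, Bool.or_eq_true, Nat.add_sub_cancel_left] at hm
    have hpre : fixPrefix.getD j 0 ≤ 5 + j := (Nat.le_of_ble_eq_true hm.2).trans (by simp)
    obtain ⟨hs, hk⟩ := fV_spec hn
    have h1 : oneB (fK (5 + j)) = true := hm.1.2.resolve_left fun e => by have := lt_blt e; omega
    have hsig1 : Sig 1 1 (h.1 (fV (5 + j))) :=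
      (sig_one_of hn h1).map fun i hi => hh i (by omega)
    have hsig : Sig (5 + j) (fixPrefix.getD j 0) (h.1 (fV (5 + j))) :=
      Sig.map (fun i _ => ⟨rfl, rfl⟩) fun i hi => ih i (by omega) (by omega)
    have := one_all (one_found (hs.map h) hsig1)
    simp only [oneOk, Bool.and_eq_true, List.all_eq_true, Bool.or_eq_true, Bool.not_eq_true',
      List.mem_range] at this
    rw [← sigEq_iff hn (hs.map h) (by omega)] at hsig
    have e := this.2 j (by omega)
    rw [Nat.add_comm j 5] at e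
    rcases e with e | e
    · rw [hsig] at e; exact Bool.noConfusion e
    · exact key_inj (hs.map h) hs (by rw [hk]; exact Nat.eq_of_beq_eq_true e)

/-- the frame inside the lattice -/
noncomputable def eV (q : ℕ) : ruLattice :=
  if hq : q < 56 then (exists_vec (lt_blt (List.all_eq_true.1 e_mem q (List.mem_range.2 hq)))).choose
  else b0

theorem co_eVec_bound {q r : ℕ} (hr : r < 56) : -32 ≤ co (eVec q) r ∧ co (eVec q) r < 32 := by
  rw [co_eVec hr]; split_ifs <;> norm_num

theorem eV_val {q : ℕ} (hq : q < 56) : (eV q).1 = eVec q := by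
  have h := (exists_vec (lt_blt (List.all_eq_true.1 e_mem q (List.mem_range.2 hq)))).choose_spec
  rw [eV, dif_pos hq, ← h.1.vec, h.2, vecK_key fun r hr => co_eVec_bound hr]

theorem getD_drop (l : List (ℤ × ℤ)) (i : ℕ) : l.getD i (0, 0) = (l.drop i).headD (0, 0) := by
  induction l generalizing i with
  | nil => simp
  | cons a l ih => cases i <;> simp [ih]

theorem fixComb_eq (q : ℕ) : ∀ (l : List (ℤ × ℤ)) (j : ℕ), fixComb j l q =
    ∑ i ∈ Finset.range l.length,
      ((l.getD i (0, 0)).1 * dg (fK (j + i)) q + (l.getD i (0, 0)).2 * dg (rotK 28 (fK (j + i))) q)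
  | [], j => by simp [fixComb]
  | e :: l, j => by
    rw [fixComb, fixComb_eq q l (j + 1), List.length_cons, Finset.sum_range_succ']
    simp only [List.getD_cons_succ, List.getD_cons_zero, Nat.add_zero]
    rw [add_comm]
    congr 1
    exact Finset.sum_congr rfl fun i _ => by rw [show j + (i + 1) = j + 1 + i by ring]

theorem zsmul_cancel {n : ℤ} (hn : n ≠ 0) {v w : ruLattice} (h : n • v = n • w) : v = w :=
  Subtype.ext (zsmul_right_cancel hn (by
    simpa only [AddSubgroupClass.coe_zsmul] using congrArg Subtype.val h))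

/-- rigidity -/
theorem fixG_five : fixG 5 = ⊥ := by
  rw [eq_bot_iff]
  intro h hh
  have hall := fix_all hh
  have heven : ∀ p < 28, h.1 (eV (2 * p)) = eV (2 * p) := by
    intro p hp
    obtain ⟨hl, hc⟩ := span_fix p hp
    have e : (4 : ℤ) • eV (2 * p) = ∑ i ∈ Finset.range 28,
        (((spanFix.getD p []).getD i (0, 0)).1 • fV i +
          ((spanFix.getD p []).getD i (0, 0)).2 • ruI (fV i)) := by
      refine Subtype.ext (co_ext fun q hq => ?_)
      rw [AddSubgroupClass.coe_zsmul, eV_val (by omega), co_zsmul, co_eVec hq, AddSubgroup.val_finset_sum,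
        co_sum, ← hc q hq, fixComb_eq, hl]
      refine Finset.sum_congr rfl fun i hi => ?_
      obtain ⟨hs, hk⟩ := fV_spec (Finset.mem_range.1 hi)
      rw [AddSubgroup.coe_add, AddSubgroupClass.coe_zsmul, AddSubgroupClass.coe_zsmul, co_add, co_zsmul,
        co_zsmul, Nat.zero_add, ← hk, rot_key hs, ← co_vecK _ hq, ← co_vecK _ hq, hs.vec, hs.ruI.vec]
    refine zsmul_cancel (n := 4) (by norm_num) ?_
    rw [← actHom_apply, ← map_zsmul, e, map_sum]
    refine Finset.sum_congr rfl fun i hi => ?_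
    rw [map_add, map_zsmul, map_zsmul, actHom_apply, actHom_apply, fourRu_ruI, hall i (Finset.mem_range.1 hi)]
  have hfr : ∀ q < 56, h.1 (eV q) = eV q := by
    intro q hq
    rcases Nat.mod_two_eq_zero_or_one q with h2 | h2
    · rw [show q = 2 * (q / 2) by omega]; exact heven _ (by omega)
    · have e : eV q = ruI (eV (2 * (q / 2))) := by
        refine Subtype.ext (co_ext fun r hr => ?_)
        rw [coe_ruI, eV_val hq, eV_val (by omega), co_eVec hr]
        rcases Nat.mod_two_eq_zero_or_one r with r2 | r2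
        · rw [show r = 2 * (r / 2) by omega, co_iMul_re _ _ (by omega), co_eVec (by omega), if_neg (by omega),
            if_neg (by omega)]
          rfl
        · rw [show r = 2 * (r / 2) + 1 by omega, co_iMul_im _ _ (by omega), co_eVec (by omega)]
          split_ifs <;> omega
      rw [e, fourRu_ruI, heven _ (by omega)]
  rw [Subgroup.mem_bot]
  refine Subtype.ext (Equiv.ext fun v => ?_)
  show h.1 v = v
  have e : (4 : ℤ) • v = ∑ q ∈ Finset.range 56, co v.1 q • eV q := by
    refine Subtype.ext ?_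
    rw [AddSubgroupClass.coe_zsmul, four_smul_eq, AddSubgroup.val_finset_sum]
    exact Finset.sum_congr rfl fun q hq => by
      rw [AddSubgroupClass.coe_zsmul, eV_val (Finset.mem_range.1 hq)]
  refine zsmul_cancel (n := 4) (by norm_num) ?_
  rw [← actHom_apply, ← map_zsmul, e, map_sum]
  exact Finset.sum_congr rfl fun q hq => by
    rw [map_zsmul, actHom_apply, hfr q (Finset.mem_range.1 hq)]

/-- the keys of one orbit -/
def orbKeys (k : ℕ) (hk : k < 5) : Set ℕ := {K | ∃ h ∈ fixG k, key (h.1 (fV k)).1 = K}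

theorem card_step (k : ℕ) (hk : k < 5) :
    Nat.card (fixG k) = (orbKeys k hk).ncard * Nat.card (fixG (k + 1)) := by
  have hst : MulAction.stabilizer (fixG k) (fV k) = (fixG (k + 1)).subgroupOf (fixG k) := by
    ext ⟨h, hh⟩
    rw [MulAction.mem_stabilizer_iff, Subgroup.mem_subgroupOf]
    constructor
    · intro e j hj
      rcases Nat.lt_succ_iff_lt_or_eq.1 hj with hj | rfl
      · exact hh j hj
      · exact e
    · exact fun e => e k (by omega)
  have horb : MulAction.orbit (fixG k) (fV k) = {w | ∃ h ∈ fixG k, h.1 (fV k) = w} := by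
    ext w
    exact ⟨fun ⟨⟨h, hh⟩, e⟩ => ⟨h, hh, e⟩, fun ⟨h, hh, e⟩ => ⟨⟨h, hh⟩, e⟩⟩
  have himg : orbKeys k hk = (fun w : ruLattice => key w.1) '' MulAction.orbit (fixG k) (fV k) := by
    rw [horb]
    ext K
    exact ⟨fun ⟨h, hh, e⟩ => ⟨_, ⟨h, hh, rfl⟩, e⟩, fun ⟨w, ⟨h, hh, e⟩, e'⟩ => ⟨h, hh, e ▸ e'⟩⟩
  have hn : (orbKeys k hk).ncard = (MulAction.stabilizer (fixG k) (fV k)).index := by
    rw [MulAction.index_stabilizer, himg]
    refine Set.ncard_image_of_injOn ?_
    rw [horb]
    rintro _ ⟨a, -, rfl⟩ _ ⟨b, -, rfl⟩ e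
    exact key_inj ((bV_sh hk).map a) ((bV_sh hk).map b) e
  rw [hn, ← Subgroup.index_mul_card (MulAction.stabilizer (fixG k) (fV k)), hst,
    Nat.card_congr (Subgroup.subgroupOfEquivOfLe (fixG_succ_le k)).toEquiv]

theorem keys_nodup : sKeys.Nodup ∧ sKeys.length = 16240 := by
  have h := s_sorted
  simp only [Bool.and_eq_true] at h
  obtain ⟨⟨⟨⟨⟨⟨⟨a0, a1⟩, a2⟩, a3⟩, a4⟩, a5⟩, a6⟩, a7⟩ := h
  have z := s_size
  simp only [Bool.and_eq_true] at z
  obtain ⟨⟨⟨⟨⟨⟨⟨z0, z1⟩, z2⟩, z3⟩, z4⟩, z5⟩, z6⟩, z7⟩ := z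
  obtain ⟨n01, b01⟩ := KTab.keys_nodup_append a0 a1
  obtain ⟨n23, b23⟩ := KTab.keys_nodup_append a2 a3
  obtain ⟨n45, b45⟩ := KTab.keys_nodup_append a4 a5
  obtain ⟨n67, b67⟩ := KTab.keys_nodup_append a6 a7
  have hc : sCuts.getD 1 0 ≤ sCuts.getD 2 0 ∧ sCuts.getD 2 0 ≤ sCuts.getD 3 0 ∧
      sCuts.getD 3 0 ≤ sCuts.getD 4 0 ∧ sCuts.getD 4 0 ≤ sCuts.getD 5 0 :=
    ⟨(KTab.sorted_spec a2).2.2, (KTab.sorted_spec a3).2.2, (KTab.sorted_spec a4).2.2,
      (KTab.sorted_spec a5).2.2⟩
  refine ⟨?_, ?_⟩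
  · rw [sKeys, List.nodup_append]
    refine ⟨List.nodup_append.2 ⟨n01, n23, fun x hx y hy => ?_⟩,
      List.nodup_append.2 ⟨n45, n67, fun x hx y hy => ?_⟩, fun x hx y hy => ?_⟩
    · have := b01 x hx; have := b23 y hy; omega
    · have := b45 x hx; have := b67 y hy; omega
    · rcases List.mem_append.1 hx with hx | hx <;> rcases List.mem_append.1 hy with hy | hy
      all_goals first
        | (have := b01 x hx; have := b45 y hy; omega)
        | (have := b01 x hx; have := b67 y hy; omega)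
        | (have := b23 x hx; have := b45 y hy; omega)
        | (have := b23 x hx; have := b67 y hy; omega)
  · simp only [sKeys, List.length_append, KTab.length_keys, Nat.eq_of_beq_eq_true z0,
      Nat.eq_of_beq_eq_true z1, Nat.eq_of_beq_eq_true z2, Nat.eq_of_beq_eq_true z3,
      Nat.eq_of_beq_eq_true z4, Nat.eq_of_beq_eq_true z5, Nat.eq_of_beq_eq_true z6,
      Nat.eq_of_beq_eq_true z7]

theorem tab_card : orthTab.keys.Nodup ∧ c1Tab.keys.Nodup ∧ c2Tab.keys.Nodup ∧ c3Tab.keys.Nodup ∧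
    c4Tab.keys.Nodup ∧ orthTab.keys.length = 7020 ∧ c1Tab.keys.length = 2304 ∧
    c2Tab.keys.length = 78 ∧ c3Tab.keys.length = 100 ∧ c4Tab.keys.length = 2 := by
  have h := sorted_ok
  simp only [Bool.and_eq_true] at h
  obtain ⟨⟨⟨⟨⟨a, b⟩, -⟩, c⟩, d⟩, e⟩ := h
  have z := size_ok
  simp only [Bool.and_eq_true] at z
  obtain ⟨⟨⟨⟨⟨za, zb⟩, -⟩, zc⟩, zd⟩, ze⟩ := z
  simp only [KTab.length_keys]
  exact ⟨(KTab.sorted_spec a).1, (KTab.sorted_spec b).1, (KTab.sorted_spec c).1, (KTab.sorted_spec d).1,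
    (KTab.sorted_spec e).1, Nat.eq_of_beq_eq_true za, Nat.eq_of_beq_eq_true zb,
    Nat.eq_of_beq_eq_true zc, Nat.eq_of_beq_eq_true zd, Nat.eq_of_beq_eq_true ze⟩

theorem ncard_keys {L : List ℕ} (hL : L.Nodup) {s : Set ℕ} (h : ∀ K, K ∈ s ↔ K ∈ L) :
    s.ncard = L.length := by
  rw [show s = (L.toFinset : Set ℕ) from Set.ext fun K => by simp [h], Set.ncard_coe_finset,
    List.toFinset_card_of_nodup hL]

/-- one level of the chain -/
structure Level (k : ℕ) (hk : k < 5) (L : List ℕ) : Prop where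
  sub : ∀ K, K ∈ orbKeys k hk → K ∈ L
  reach : ∀ K ∈ L, ∃ u ∈ genSet (lvGens.getD k 0), key (u.1 (fV k)).1 = K

theorem Level.ncard {k : ℕ} {hk : k < 5} {L : List ℕ} (h : Level k hk L) (hL : L.Nodup) :
    (orbKeys k hk).ncard = L.length :=
  ncard_keys hL fun K => ⟨h.sub K, fun hK =>
    let ⟨u, hu, e⟩ := h.reach K hK
    ⟨u, gen_le_fix (by omega) hu, e⟩⟩

theorem level0 : Level 0 (by norm_num) sKeys where
  sub := fun _ ⟨h, _, e⟩ => e ▸ sFind_mem ((bV_sh (by norm_num)).map h).found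
  reach := fun _ hK => by rw [fV0]; exact reach_key hK

theorem tab_reach {t : KTab} {m root : ℕ} (hm : m ≤ 8) {f : ℕ → ℕ → ℕ → Bool}
    (hall : t.all f = true) (hf : ∀ i K v, f i K v = true → orbOk t.find t.keyAt m root K v = true)
    {b : ruLattice} (hb : Sh16 b) (hroot : key b.1 = root) {K : ℕ} (hK : K ∈ t.keys) :
    ∃ u ∈ genSet m, key (u.1 b).1 = K := by
  obtain ⟨i, v, h⟩ := KTab.all_spec hall hK
  exact reach' hm (fun x hx => (KTab.find_all hall hx).elim fun i e => hf i x _ e) hb hroot (hf i K v h)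

theorem sig_self (n m : ℕ) : Sig n m (fV n) := fun _ _ => ⟨rfl, rfl⟩

theorem sig_orbit {n : ℕ} {v : ruLattice} {K k : ℕ} (hs : Sig n k v) {h : fourRu} (hh : h ∈ fixG k)
    (e : key (h.1 v).1 = K) : Sig n k (h.1 v) ∧ key (h.1 v).1 = K :=
  ⟨hs.map hh, e⟩

theorem level1 : Level 1 (by norm_num) c1Tab.keys where
  sub := by
    rintro _ ⟨h, hh, rfl⟩
    exact KTab.mem_keys_of_memKey (blt_true (one_found ((bV_sh (by norm_num)).map h) ((sig_self 1 1).map hh)))
  reach := fun K hK => tab_reach (lvGens_le 1 (by norm_num)) one_ok (fun _ _ _ e => by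
    simp only [oneOk, Bool.and_eq_true] at e; exact e.1.1.1.1) (bV_sh (by norm_num))
    (bV_key (by norm_num)) hK

theorem sub_one {k : ℕ} (hk : k < 5) (h1 : 1 ≤ k) (hone : oneB (bK k) = true) {h : fourRu}
    (hh : h ∈ fixG k) : oneOk (key (h.1 (fV k)).1) (c1Tab.find (key (h.1 (fV k)).1) - 1) = true :=
  one_all (one_found ((bV_sh hk).map h)
    ((sig_one_of (by omega) (by rw [bK_eq hk]; exact hone)).map fun j hj => hh j (by omega)))

theorem level2 : Level 2 (by norm_num) c2Tab.keys where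
  sub := by
    rintro _ ⟨h, hh, rfl⟩
    have := sub_one (by norm_num) (by norm_num) base_facts.1 hh
    simp only [oneOk, Bool.and_eq_true, Bool.or_eq_true, Bool.not_eq_true'] at this
    rcases this.1.1.2 with e | e
    · rw [← Bool.not_eq_true, sigEq_iff (by norm_num) ((bV_sh (by norm_num)).map h) (by norm_num)] at e
      exact absurd ((sig_self 2 2).map hh) e
    · exact KTab.mem_keys_of_memKey e
  reach := fun K hK => tab_reach (by norm_num) c2_ok (fun _ _ _ e => e) (bV_sh (by norm_num))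
    (bV_key (by norm_num)) hK

theorem level4 : Level 4 (by norm_num) c4Tab.keys where
  sub := by
    rintro _ ⟨h, hh, rfl⟩
    have := sub_one (by norm_num) (by norm_num) base_facts.2.1 hh
    simp only [oneOk, Bool.and_eq_true, Bool.or_eq_true, Bool.not_eq_true'] at this
    rcases this.1.2 with e | e
    · rw [← Bool.not_eq_true, sigEq_iff (by norm_num) ((bV_sh (by norm_num)).map h) (by norm_num)] at e
      exact absurd ((sig_self 4 4).map hh) e
    · exact KTab.mem_keys_of_memKey e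
  reach := fun K hK => tab_reach (by norm_num) c4_ok (fun _ _ _ e => e) (bV_sh (by norm_num))
    (bV_key (by norm_num)) hK

theorem orth_map {v : ruLattice} (hv : Orth v) {h : fourRu} (hh : h.1 b0 = b0) : Orth (h.1 v) := by
  constructor
  · conv_lhs => rw [← hh]
    rw [fourRu_dot]; exact hv.1
  · conv_lhs => rw [← hh, ← fourRu_ruI]
    rw [fourRu_dot]; exact hv.2

theorem fix_b0 {k : ℕ} (hk : 1 ≤ k) {h : fourRu} (hh : h ∈ fixG k) : h.1 b0 = b0 := by
  rw [← fV0]; exact hh 0 hk

theorem level3 : Level 3 (by norm_num) c3Tab.keys where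
  sub := by
    rintro _ ⟨h, hh, rfl⟩
    have hs := (bV_sh (show 3 < 5 by norm_num)).map h
    have ho : Orth (fV 3) := (orthB_iff (bV_sh (by norm_num))).1 (by rw [bV_key (by norm_num)]; exact base_facts.2.2.2.1)
    have := orth_all (orth_found hs (orth_map ho (fix_b0 (by norm_num) hh)))
    simp only [orthOk, Bool.and_eq_true, Bool.or_eq_true, Bool.not_eq_true'] at this
    rcases this.2 with e | e
    · rw [← Bool.not_eq_true, sigEq_iff (by norm_num) hs (by norm_num)] at e
      exact absurd ((sig_self 3 3).map hh) e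
    · exact KTab.mem_keys_of_memKey e
  reach := fun K hK => tab_reach (by norm_num) c3_ok (fun _ _ _ e => e) (bV_sh (by norm_num))
    (bV_key (by norm_num)) hK

theorem card_fixG_one : Nat.card (fixG 1) = 35942400 := by
  obtain ⟨-, n1, n2, n3, n4, -, l1, l2, l3, l4⟩ := tab_card
  rw [card_step 1 (by norm_num), level1.ncard n1, card_step 2 (by norm_num), level2.ncard n2,
    card_step 3 (by norm_num), level3.ncard n3, card_step 4 (by norm_num), level4.ncard n4,
    show 4 + 1 = 5 from rfl, fixG_five, Subgroup.card_bot, l1, l2, l3, l4]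

theorem card_fourRu : Nat.card fourRu = 583704576000 := by
  rw [← Subgroup.card_top, ← fixG_zero, card_step 0 (by norm_num), level0.ncard keys_nodup.1,
    keys_nodup.2, card_fixG_one]

theorem fixG_le_gen_step {k : ℕ} {hk : k < 5} {L : List ℕ} (hl : Level k hk L)
    (ih : fixG (k + 1) ≤ genSet (lvGens.getD (k + 1) 0)) : fixG k ≤ genSet (lvGens.getD k 0) := by
  intro h hh
  obtain ⟨u, hu, e⟩ := hl.reach _ (hl.sub _ ⟨h, hh, rfl⟩)
  have e' : u.1 (fV k) = h.1 (fV k) := key_inj ((bV_sh hk).map u) ((bV_sh hk).map h) e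
  have : u⁻¹ * h ∈ fixG (k + 1) := by
    intro j hj
    rcases Nat.lt_succ_iff_lt_or_eq.1 hj with hj | rfl
    · exact mul_mem (inv_mem (gen_le_fix (by omega) hu)) hh j hj
    · show u.1.symm (h.1 (fV j)) = fV j
      rw [← e', Equiv.symm_apply_apply]
  simpa using mul_mem hu (genSet_mono (lvGens_anti k hk) (ih this))

theorem fixG_one_le : fixG 1 ≤ genSet 6 :=
  fixG_le_gen_step level1 (fixG_le_gen_step level2 (fixG_le_gen_step level3 (fixG_le_gen_step level4
    (by rw [fixG_five]; exact bot_le))))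

theorem gen_top : genSet 8 = ⊤ :=
  eq_top_iff.2 (fixG_zero ▸ fixG_le_gen_step level0 fixG_one_le)

end Cfsg.Agent.RuAut
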