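import Cfsg.Agent.RuAut.CheckCode

set_option autoImplicit false

/-! Kernel check of one quarter of the class table. -/

namespace Cfsg.Agent.RuAut

theorem class_ok0 : KTab.all (fun _ w v => classOk w v) classTab.lT.lT = true := by decide +kernel

theorem class_root : classTab.rootOk (fun _ w v => classOk w v) = true := by decide +kernel

theorem class_rootL : classTab.lT.rootOk (fun _ w v => classOk w v) = true := by decide +kernel

theorem class_rootR : classTab.rT.rootOk (fun _ w v => classOk w v) = true := by decide +kernel

end Cfsg.Agent.RuAut
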