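import Cfsg.Agent.RuAut.CheckCode

set_option autoImplicit false

/-! Kernel check of one quarter of the class table. -/

namespace Cfsg.Agent.RuAut

theorem class_ok1 : KTab.all (fun _ w v => classOk w v) classTab.lT.rT = true := by decide +kernel

end Cfsg.Agent.RuAut
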