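import Cfsg.Agent.RuAut.STab0
import Cfsg.Agent.RuAut.STab1
import Cfsg.Agent.RuAut.STab2
import Cfsg.Agent.RuAut.STab3
import Cfsg.Agent.RuAut.STab4
import Cfsg.Agent.RuAut.STab5
import Cfsg.Agent.RuAut.STab6
import Cfsg.Agent.RuAut.STab7

set_option autoImplicit false

/-! The table of short vectors as one search tree. -/

namespace Cfsg.Agent.RuAut

theorem KTab.keys_nodup_append {t u : KTab} {a b c : ℕ} (h1 : t.sorted a b = true)
    (h2 : u.sorted b c = true) : (t.keys ++ u.keys).Nodup ∧
      ∀ x ∈ t.keys ++ u.keys, a ≤ x ∧ x < c := by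
  obtain ⟨n1, b1, e1⟩ := KTab.sorted_spec h1
  obtain ⟨n2, b2, e2⟩ := KTab.sorted_spec h2
  refine ⟨List.nodup_append.2 ⟨n1, n2, fun x hx y hy => ?_⟩, fun x hx => ?_⟩
  · have := b1 x hx; have := b2 y hy; omega
  · rcases List.mem_append.1 hx with hx | hx
    · have := b1 x hx; omega
    · have := b2 x hx; omega

/-- the parts -/
noncomputable def sPart : ℕ → KTab
  | 0 => sTab0 | 1 => sTab1 | 2 => sTab2 | 3 => sTab3
  | 4 => sTab4 | 5 => sTab5 | 6 => sTab6 | 7 => sTab7
  | _ => .nil

/-- the part holding a key -/
def partOf (cuts : List ℕ) (x : ℕ) : ℕ :=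
  match cuts with
  | [] => 0
  | c :: cs => bif Nat.blt x c then 0 else partOf cs x + 1

/-- least keys of the parts after the first -/
def sCuts : List ℕ := [0x7e08607e086086082086082082081f82182082082182081f8208207e081f8208207e07e0820860821820, 0x81f82181f8218218208218208208607e08208207e082086082082081f86082082081f81f8208217e0820, 0x82081f82081f8208208217e086081f82082082081f8608208608607e07e08207e082082182081f81f820, 0x820820820820820820820820820820820820820820820820820820820820820820820820820820820824, 0x82082182082182082081f86081f7e08208207e082082086082186086081f82086082082181f820820860, 0x82181f82181f81f82081f8208208607e08208207e082086082082081f8608208208218218208217e0820, 0x8607e08607e07e08207e082082082181f82082082182081f8208208608218208207e07e0820860821820]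

/-- lookup -/
noncomputable def sFind (x : ℕ) : ℕ :=
  match sCuts with
  | [c1, c2, c3, c4, c5, c6, c7] =>
    bif Nat.blt x c4 then
      (bif Nat.blt x c2 then (bif Nat.blt x c1 then sTab0.find x else sTab1.find x)
       else (bif Nat.blt x c3 then sTab2.find x else sTab3.find x))
    else
      (bif Nat.blt x c6 then (bif Nat.blt x c5 then sTab4.find x else sTab5.find x)
       else (bif Nat.blt x c7 then sTab6.find x else sTab7.find x))
  | _ => 0

/-- key at a position -/
noncomputable def sKeyAt (n : ℕ) : ℕ :=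
  bif Nat.blt n 8120 then
    (bif Nat.blt n 4060 then (bif Nat.blt n 2030 then sTab0.keyAt n else sTab1.keyAt n)
     else (bif Nat.blt n 6090 then sTab2.keyAt n else sTab3.keyAt n))
  else
    (bif Nat.blt n 12180 then (bif Nat.blt n 10150 then sTab4.keyAt n else sTab5.keyAt n)
     else (bif Nat.blt n 14210 then sTab6.keyAt n else sTab7.keyAt n))

theorem sFind_pos {x : ℕ} (h : 0 < sFind x) : ∃ j < 8, 0 < (sPart j).find x ∧ sFind x = (sPart j).find x := by
  simp only [sFind, sCuts] at h ⊢
  revert h
  generalize Nat.blt x _ = a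
  cases a <;> simp only [cond_true, cond_false]
  all_goals (generalize Nat.blt x _ = b; cases b <;> simp only [cond_true, cond_false])
  all_goals (generalize Nat.blt x _ = c; cases c <;> simp only [cond_true, cond_false])
  exacts [fun h => ⟨7, by omega, h, rfl⟩, fun h => ⟨6, by omega, h, rfl⟩,
    fun h => ⟨5, by omega, h, rfl⟩, fun h => ⟨4, by omega, h, rfl⟩,
    fun h => ⟨3, by omega, h, rfl⟩, fun h => ⟨2, by omega, h, rfl⟩,
    fun h => ⟨1, by omega, h, rfl⟩, fun h => ⟨0, by omega, h, rfl⟩]

/-- all keys -/
noncomputable def sKeys : List ℕ :=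
  ((sTab0.keys ++ sTab1.keys) ++ (sTab2.keys ++ sTab3.keys)) ++
    ((sTab4.keys ++ sTab5.keys) ++ (sTab6.keys ++ sTab7.keys))

theorem sFind_mem {x : ℕ} (h : 0 < sFind x) : x ∈ sKeys := by
  obtain ⟨j, hj, h', -⟩ := sFind_pos h
  have hm : x ∈ (sPart j).keys := KTab.mem_keys_of_memKey (blt_true h')
  simp only [sKeys, List.mem_append]
  interval_cases j <;> simp only [sPart] at hm <;> tauto

end Cfsg.Agent.RuAut
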