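import Cfsg.Agent.RuAut.Code
import Cfsg.Agent.RuAut.STab
import Cfsg.Agent.RuAut.PairData

set_option autoImplicit false

/-! Kernel checks on the classes modulo two: data side. -/

namespace Cfsg.Agent.RuAut

/-- membership in the table of short vectors -/
noncomputable def memS (K : ℕ) : Bool := Nat.blt 0 (sFind K)

/-- decode the search order -/
def steps : ℕ → ℕ → List (ℕ × ℕ)
  | 0, _ => []
  | n + 1, v => ((v &&& 33554431) % 64 - 1, (v &&& 33554431) >>> 6) :: steps n (v >>> 25)

/-- every mask annihilates the later columns -/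
def seqOk : List (ℕ × ℕ) → Bool
  | [] => true
  | qm :: r => (r.all fun e => !par (qm.2 &&& colS e.1)) && seqOk r

/-- the search over signs -/
noncomputable def walk : List (ℕ × ℕ) → ℕ → ℕ → Bool
  | [], t, K => !(Nat.beq t 0) || memS K
  | qm :: r, t, K => (par (qm.2 &&& t) || walk r t K) &&
      (par (qm.2 &&& (t ^^^ colS qm.1)) || walk r (t ^^^ colS qm.1) (K - 2 * 64 ^ qm.1))

/-- all subsets avoid the sums of two columns -/
noncomputable def avoid : List ℕ → ℕ → Bool
  | [], t => Nat.beq (pairTab.find t) 0
  | q :: r, t => avoid r t && avoid r (t ^^^ colS q)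

/-- check one class -/
noncomputable def classOk (w v : ℕ) : Bool :=
  bif Nat.beq v 0 then
    Nat.beq (pc w) 8 && avoid ((List.range 56).filter (w.testBit ·)) (tSyn w)
  else bif Nat.blt v 524288 then
    Nat.beq (pc w) 16 && (((List.range 56).filter (w.testBit ·)).all fun q => !par (v &&& colS q)) &&
      par (v &&& tSyn w)
  else
    Nat.beq (pc w) 16 && remBits ((steps 16 (v >>> 19)).map Prod.fst) w &&
      (steps 16 (v >>> 19)).all (fun e => Nat.blt e.1 56) &&
      seqOk (steps 16 (v >>> 19)) &&
      walk (steps 16 (v >>> 19)) (tSyn w)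
        (offs + (((steps 16 (v >>> 19)).map Prod.fst).map fun q => 64 ^ q).sum)

theorem pair_zero : Nat.beq (pairTab.find 0) (56 * 64 + 56 + 1) = true := by decide +kernel

theorem pair_one : ((List.range 56).all fun a =>
    Nat.beq (pairTab.find (colS a)) (56 * 64 + a + 1)) = true := by decide +kernel

theorem pair_two : ((List.range 56).all fun a => (List.range 56).all fun b =>
    !Nat.blt a b || Nat.beq (pairTab.find (colS a ^^^ colS b)) (a * 64 + b + 1)) = true := by
  decide +kernel

/-- the frame vectors -/
def frameKey (s : Bool) (q : ℕ) : ℕ := bif s then offs + 4 * 64 ^ q else offs - 4 * 64 ^ q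

theorem frame_ok : ((List.range 56).all fun q =>
    memS (frameKey true q) && memS (frameKey false q)) = true := by decide +kernel

end Cfsg.Agent.RuAut
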