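import Cfsg.Agent.RuAut.Code

set_option autoImplicit false

/-! All light words of the code occur in the class table. -/

namespace Cfsg.Agent.RuAut

/-- a class is accepted -/
noncomputable def goodW (w : ℕ) : Bool :=
  Nat.blt 16 (pc w) || Nat.beq w 0 || classTab.memKey w

/-- all combinations of at most a given number of generators -/
noncomputable def combos : List (ℕ × ℕ) → ℕ → ℕ → Bool
  | [], _, v => goodW v
  | _ :: _, 0, v => goodW v
  | pb :: l, k + 1, v => combos l (k + 1) v && combos l k (v ^^^ pb.2)

theorem combos_ok0 : combos (infoSets.getD 0 []) 5 0 = true := by decide +kernel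

theorem combos_ok1 : combos (infoSets.getD 1 []) 5 0 = true := by decide +kernel

theorem combos_ok2 : combos (infoSets.getD 2 []) 5 0 = true := by decide +kernel

end Cfsg.Agent.RuAut
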