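import Cfsg.Agent.RuAut.Img

set_option autoImplicit false

/-! Kernel checks on the generators. -/

open Cfsg.Spor

namespace Cfsg.Agent.RuAut

open RuLat

/-- the column list has 56 small entries with the stored sum and packing -/
def colBasic (g : ℕ) : Bool :=
  Nat.beq (colKeys.getD g []).length 56 && Nat.beq (colSums.getD g 0) (colKeys.getD g []).sum &&
    ((List.range 56).all fun q => Nat.blt (colK g q) (2 ^ 336) &&
      decide (packZ (2 ^ 32) (colV g q) = (col32.getD g []).getD q 0)) &&
    ((List.range 28).all fun k => decide (eqB (colV g (2 * k + 1)) (iMul (colV g (2 * k)))))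

theorem col_basic : ((List.range 8).all colBasic) = true := by decide +kernel

/-- decode a signed combination -/
def dec2 : ℕ → ℕ → List (ℕ × ℤ)
  | 0, _ => []
  | k + 1, n => bif Nat.beq n 0 then [] else
      ((n &&& 16777215) / 4096 - 1, (((n &&& 4095 : ℕ) : ℤ) - 2048)) :: dec2 k (n >>> 24)

/-- weighted sum of packed basis rows -/
def comb32 : List (ℕ × ℤ) → ℤ
  | [] => 0
  | e :: l => e.2 * row32.getD e.1 0 + comb32 l

/-- size of a combination -/
def combBd : List (ℕ × ℤ) → ℕ
  | [] => 0
  | e :: l => e.2.natAbs * 64 + combBd l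

/-- one image certificate -/
def fwdOk (g r : ℕ) : Bool :=
  decide (((List.range 56).map fun q => co (rowV r) q * (col32.getD g []).getD q 0).sum =
      4 * comb32 (dec2 120 ((fwdCert.getD g []).getD r 0))) &&
    ((dec2 120 ((fwdCert.getD g []).getD r 0)).all fun e => Nat.blt e.1 56) &&
    Nat.blt (combBd (dec2 120 ((fwdCert.getD g []).getD r 0))) 100000000

theorem row32_ok : ((List.range 56).all fun r => decide (packZ (2 ^ 32) (rowV r) = row32.getD r 0) &&
    ((List.range 56).all fun q => decide (|co (rowV r) q| ≤ 16))) = true := by decide +kernel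

theorem fwd_ok : ((List.range 8).all fun g => (List.range 56).all (fwdOk g)) = true := by
  decide +kernel

end Cfsg.Agent.RuAut
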