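import Cfsg.Agent.RuAut.Img

set_option autoImplicit false

/-! Kernel check of the orthogonality of the generators. -/

open Cfsg.Spor

namespace Cfsg.Agent.RuAut

open RuLat

/-- orthogonality of the columns -/
noncomputable def gramOk (g : ℕ) : Bool :=
  (List.range 56).all fun q => (List.range 56).all fun r =>
    Nat.blt q r || dotL 56 (colK g q) (colK g r) 0 0 (bif Nat.beq q r then 16 else 0)

theorem gram_ok : ((List.range 8).all gramOk) = true := by decide +kernel

end Cfsg.Agent.RuAut
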