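import Cfsg.Agent.RuAut.Scan

set_option autoImplicit false

/-! Kernel checks on the tables. -/

namespace Cfsg.Agent.RuAut

theorem one_ok : c1Tab.all (fun _ K v => oneOk K v) = true := by decide +kernel

theorem fix_base : ((List.range 5).all fun k => Nat.beq (fK k) (bK k)) = true := by decide +kernel

theorem fix_mem : ((List.range 28).all fun k => Nat.blt 0 (sFind (fK k)) &&
    (Nat.blt k 5 || oneB (fK k)) && Nat.ble (fixPrefix.getD (k - 5) 0) (max k 5)) = true := by
  decide +kernel

theorem sparse_lt : ((List.range 28).all fun j =>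
    ((fixP.getD j [] ++ fixN.getD j [] ++ fixPI.getD j [] ++ fixNI.getD j []).all fun e => Nat.blt e 56)) = true := by
  decide +kernel

theorem sparse_ok : ((List.range 28).all fun j => (List.range 56).all fun q =>
    decide (cntL (fixP.getD j []) q - cntL (fixN.getD j []) q = dg (fK j) q) &&
      decide (cntL (fixPI.getD j []) q - cntL (fixNI.getD j []) q = dg (rotK 28 (fK j)) q)) = true := by
  decide +kernel

theorem base_class : (oneB (bK 2) && oneB (bK 4) && oneB (bK 1) && orthB (bK 3) && sigEq 2 2 (bK 2) &&
    sigEq 3 3 (bK 3) && sigEq 4 4 (bK 4) && lineB (bK 0) && !orthB (bK 0) && !oneB (bK 0)) = true := by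
  decide +kernel

end Cfsg.Agent.RuAut
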