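import Cfsg.Agent.RuAut.Scan
import Cfsg.Agent.RuAut.CheckCode

set_option autoImplicit false

/-! Kernel checks for rigidity. -/

open Cfsg.Spor

namespace Cfsg.Agent.RuAut

open RuLat

/-- one coordinate of a combination of the rigid vectors -/
noncomputable def fixComb : ℕ → List (ℤ × ℤ) → ℕ → ℤ
  | _, [], _ => 0
  | j, e :: l, q => e.1 * dg (fK j) q + e.2 * dg (rotK 28 (fK j)) q + fixComb (j + 1) l q

theorem span_fix : ∀ p < 28, (spanFix.getD p []).length = 28 ∧
    ∀ q < 56, fixComb 0 (spanFix.getD p []) q = 4 * (if q = 2 * p then 4 else 0) := by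
  decide +kernel

theorem e_mem : ((List.range 56).all fun q => memS (key (eVec q))) = true := by decide +kernel

theorem root_eq : eqB (vecK (bK 0)) (fun p => -(ruTable.getD 0 0) p) := by decide +kernel

theorem root_norm : dot (vecK (bK 0)) (vecK (bK 0)) = 16 := by decide +kernel

end Cfsg.Agent.RuAut
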