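import Cfsg.Agent.RuAut.Scan

set_option autoImplicit false

/-! Kernel checks on the tables. -/

namespace Cfsg.Agent.RuAut

theorem s_ok6 : sTab6.all (fun _ K v => sOk K v) = true := by decide +kernel

theorem s_fix6 : sTab6.all (fun _ K _ => fixOk K) = true := by decide +kernel

theorem s_ok7 : sTab7.all (fun _ K v => sOk K v) = true := by decide +kernel

theorem s_fix7 : sTab7.all (fun _ K _ => fixOk K) = true := by decide +kernel

end Cfsg.Agent.RuAut
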