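import Cfsg.Agent.RuAut.Scan

set_option autoImplicit false

/-! Kernel checks on the tables. -/

namespace Cfsg.Agent.RuAut

theorem orth_ok : orthTab.all (fun _ K v => orthOk K v) = true := by decide +kernel

theorem or_ok : orTab.all (fun _ K v => orbOk orTab.find orTab.keyAt 6 (bK 3) K v) = true := by
  decide +kernel

theorem c2_ok : c2Tab.all (fun _ K v => orbOk c2Tab.find c2Tab.keyAt 5 (bK 2) K v) = true := by
  decide +kernel

theorem c3_ok : c3Tab.all (fun _ K v => orbOk c3Tab.find c3Tab.keyAt 4 (bK 3) K v) = true := by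
  decide +kernel

theorem c4_ok : c4Tab.all (fun _ K v => orbOk c4Tab.find c4Tab.keyAt 1 (bK 4) K v) = true := by
  decide +kernel

/-- the last key plus one -/
def topKey : ℕ := 2 ^ 336

theorem sorted_ok : (orthTab.sorted 0 topKey && c1Tab.sorted 0 topKey && orTab.sorted 0 topKey &&
    c2Tab.sorted 0 topKey && c3Tab.sorted 0 topKey && c4Tab.sorted 0 topKey) = true := by
  decide +kernel

theorem size_ok : (Nat.beq orthTab.size 7020 && Nat.beq c1Tab.size 2304 && Nat.beq orTab.size 1755 &&
    Nat.beq c2Tab.size 78 && Nat.beq c3Tab.size 100 && Nat.beq c4Tab.size 2) = true := by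
  decide +kernel

theorem s_sorted : (sTab0.sorted 0 (sCuts.getD 0 0) && sTab1.sorted (sCuts.getD 0 0) (sCuts.getD 1 0) &&
    sTab2.sorted (sCuts.getD 1 0) (sCuts.getD 2 0) && sTab3.sorted (sCuts.getD 2 0) (sCuts.getD 3 0) &&
    sTab4.sorted (sCuts.getD 3 0) (sCuts.getD 4 0) && sTab5.sorted (sCuts.getD 4 0) (sCuts.getD 5 0) &&
    sTab6.sorted (sCuts.getD 5 0) (sCuts.getD 6 0) && sTab7.sorted (sCuts.getD 6 0) topKey) = true := by
  decide +kernel

theorem s_size : (Nat.beq sTab0.size 2030 && Nat.beq sTab1.size 2030 && Nat.beq sTab2.size 2030 &&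
    Nat.beq sTab3.size 2030 && Nat.beq sTab4.size 2030 && Nat.beq sTab5.size 2030 &&
    Nat.beq sTab6.size 2030 && Nat.beq sTab7.size 2030) = true := by
  decide +kernel

theorem gens_fix : ((List.range 6).all fun k => (List.range 8).all fun g => !Nat.blt g (lvGens.getD k 0) ||
    (List.range k).all fun j => Nat.beq (img g (bK j)) (bK j)) = true := by
  decide +kernel

end Cfsg.Agent.RuAut
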