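import Cfsg.Agent.RuAut.Img
import Cfsg.Agent.RuAut.SpanData

set_option autoImplicit false

/-! The basis lies in the lattice. -/

open Cfsg.Spor

namespace Cfsg.Agent.RuAut

open RuLat

/-- a closure vector -/
def wV (k : ℕ) : RuVec := vecK (wKeys.getD k 0)

/-- the closure operations -/
def opF : ℕ → RuVec → RuVec
  | 0, v => iMul v
  | 1, v => ruRj v
  | 2, v => ruRk v
  | 3, v => ruSign v
  | _, v => ruShift v

theorem w_table : ∀ k < 20, eqB (wV k) (ruTable.getD k 0) := by decide +kernel

theorem w_step : ∀ j < 79, (wSteps.getD j (0, 0)).2 < 20 + j ∧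
    eqB (wV (20 + j)) (opF (wSteps.getD j (0, 0)).1 (wV (wSteps.getD j (0, 0)).2)) := by
  decide +kernel

/-- decode a combination of closure vectors -/
def decW : ℕ → ℕ → List (ℕ × ℤ)
  | 0, _ => []
  | k + 1, n => bif Nat.beq n 0 then [] else
      ((n &&& 16777215) / 4096 - 1, (((n &&& 4095 : ℕ) : ℤ) - 2048)) :: decW k (n >>> 24)

/-- packed value of a combination -/
def wComb32 : List (ℕ × ℤ) → ℤ
  | [] => 0
  | e :: l => e.2 * w32.getD e.1 0 + wComb32 l

/-- size of a combination -/
def wBd : List (ℕ × ℤ) → ℕ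
  | [] => 0
  | e :: l => e.2.natAbs * 32 + wBd l

/-- one certificate -/
def spanOk (r : ℕ) : Bool :=
  decide (packZ (2 ^ 32) (rowV r) = wComb32 (decW 120 (spanCert.getD r 0))) &&
    ((decW 120 (spanCert.getD r 0)).all fun e => Nat.blt e.1 99) &&
    Nat.blt (wBd (decW 120 (spanCert.getD r 0))) 1000000000

theorem w32_ok : ∀ k < 99, packZ (2 ^ 32) (wV k) = w32.getD k 0 := by decide +kernel

theorem span_ok : ((List.range 56).all spanOk) = true := by decide +kernel

end Cfsg.Agent.RuAut
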