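import Cfsg.Agent.RuAut.Vec
import Cfsg.Agent.RuAut.Bits
import Cfsg.Agent.RuAut.CodeData
import Cfsg.Agent.RuAut.AuxData

set_option autoImplicit false

/-! The binary code and the syndrome relation. -/

open Cfsg.Spor

namespace Cfsg.Agent.RuAut

open RuLat

/-- indicator of an odd coordinate -/
def oddB (x : RuVec) (q : ℕ) : Bool := Nat.beq (co x q % 4).toNat 1 || Nat.beq (co x q % 4).toNat 3

/-- indicator of a high coordinate -/
def highB (x : RuVec) (q : ℕ) : Bool := Nat.ble 2 (co x q % 4).toNat

/-- the odd coordinates as bits -/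
def mask (x : RuVec) : ℕ := Nat.ofBits fun i : Fin 56 => oddB x i.val

theorem testBit_mask (x : RuVec) {q : ℕ} (h : q < 56) : (mask x).testBit q = oddB x q :=
  Nat.testBit_ofBits_lt _ q h

theorem oddB_eq (x : RuVec) (q : ℕ) : oddB x q = decide (co x q % 2 = 1) := by
  have h1 := Int.emod_nonneg (co x q) (show (4 : ℤ) ≠ 0 by norm_num)
  have h2 := Int.emod_lt_of_pos (co x q) (show (0 : ℤ) < 4 by norm_num)
  have h3 : co x q % 2 = co x q % 4 % 2 := by omega
  rw [oddB, h3]
  interval_cases (co x q % 4) <;> rfl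

theorem highB_eq (x : RuVec) (q : ℕ) : highB x q = decide (2 ≤ co x q % 4) := by
  have h1 := Int.emod_nonneg (co x q) (show (4 : ℤ) ≠ 0 by norm_num)
  have h2 := Int.emod_lt_of_pos (co x q) (show (0 : ℤ) < 4 by norm_num)
  rw [highB]
  interval_cases (co x q % 4) <;> rfl

theorem mask_add (x y : RuVec) : mask (x + y) = mask x ^^^ mask y := by
  refine Nat.eq_of_testBit_eq fun q => ?_
  rcases lt_or_ge q 56 with h | h
  · rw [Nat.testBit_xor, testBit_mask _ h, testBit_mask _ h, testBit_mask _ h, oddB_eq, oddB_eq,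
      oddB_eq, co_add]
    by_cases a : co x q % 2 = 1 <;> by_cases b : co y q % 2 = 1 <;>
      simp [a, b] <;> omega
  · rw [Nat.testBit_xor, mask, mask, mask, Nat.testBit_ofBits_ge _ _ h, Nat.testBit_ofBits_ge _ _ h,
      Nat.testBit_ofBits_ge _ _ h]; rfl

theorem mask_neg (x : RuVec) : mask (-x) = mask x := by
  refine Nat.eq_of_testBit_eq fun q => ?_
  rcases lt_or_ge q 56 with h | h
  · rw [testBit_mask _ h, testBit_mask _ h, oddB_eq, oddB_eq, co_neg]
    congr 1; rw [eq_iff_iff]; omega
  · rw [mask, mask, Nat.testBit_ofBits_ge _ _ h, Nat.testBit_ofBits_ge _ _ h]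

theorem mask_zero : mask 0 = 0 := by
  refine Nat.eq_of_testBit_eq fun q => ?_
  rcases lt_or_ge q 56 with h | h
  · rw [testBit_mask _ h, oddB_eq, co_zero]; simp
  · rw [mask, Nat.testBit_ofBits_ge _ _ h]; simp

/-- encoding from an information set -/
def encW : List (ℕ × ℕ) → ℕ → ℕ
  | [], _ => 0
  | pb :: l, w => (bif w.testBit pb.1 then pb.2 else 0) ^^^ encW l w

theorem encW_xor : ∀ (l : List (ℕ × ℕ)) (a b : ℕ), encW l (a ^^^ b) = encW l a ^^^ encW l b
  | [], _, _ => by simp [encW]
  | pb :: l, a, b => by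
    simp only [encW, encW_xor l a b, Nat.testBit_xor]
    refine Nat.eq_of_testBit_eq fun i => ?_
    cases a.testBit pb.1 <;> cases b.testBit pb.1 <;>
      simp only [Bool.xor_self, Bool.xor_false, Bool.false_xor, cond_true, cond_false,
        Nat.testBit_xor, Nat.zero_testBit] <;>
      cases pb.2.testBit i <;> cases (encW l a).testBit i <;> cases (encW l b).testBit i <;> rfl

theorem encW_zero : ∀ l : List (ℕ × ℕ), encW l 0 = 0
  | [] => rfl
  | pb :: l => by simp [encW, encW_zero l]

theorem enc_rows : ∀ j < 3, ∀ r < 56,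
    encW (infoSets.getD j []) (mask (rowV r)) = mask (rowV r) := by decide +kernel

theorem enc_mask {x : RuVec} (hx : x ∈ span) {j : ℕ} (hj : j < 3) :
    encW (infoSets.getD j []) (mask x) = mask x := by
  induction hx using AddSubgroup.closure_induction with
  | mem x hx =>
    obtain ⟨r, rfl⟩ := hx
    rcases rowV_cases r with h | h
    · rw [h, mask_zero, encW_zero]
    · exact enc_rows j hj r h
  | zero => rw [mask_zero, encW_zero]
  | add x y _ _ h1 h2 => rw [mask_add, encW_xor, h1, h2]
  | neg x _ h => rw [mask_neg, h]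

theorem sets_perm : ((infoSets.getD 0 []).map Prod.fst ++ (infoSets.getD 1 []).map Prod.fst ++
    (infoSets.getD 2 []).map Prod.fst).length = 57 ∧
    ∀ q < 56, q ∈ (infoSets.getD 0 []).map Prod.fst ++ (infoSets.getD 1 []).map Prod.fst ++
      (infoSets.getD 2 []).map Prod.fst := by decide +kernel

theorem countP_le_of_cover (p : ℕ → Bool) (L : List ℕ) (n : ℕ) (hlen : L.length = n + 1)
    (hL : ∀ q < n, q ∈ L) : L.countP p ≤ (List.range n).countP p + 1 := by
  obtain ⟨l, hl, hs⟩ := List.subperm_of_subset (List.nodup_range (n := n))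
    fun q hq => hL q (List.mem_range.1 hq)
  obtain ⟨rest, hp0⟩ := hs.exists_perm_append
  have hp : L.Perm (List.range n ++ rest) := hp0.trans (hl.append_right rest)
  have h1 := hp.length_eq
  rw [List.length_append, List.length_range, hlen] at h1
  rw [hp.countP_eq, List.countP_append]
  have := List.countP_le_length (p := p) (l := rest)
  omega

theorem exists_light (w : ℕ) (h : pc w ≤ 16) :
    ∃ j < 3, (infoSets.getD j []).countP (fun pb => w.testBit pb.1) ≤ 5 := by
  by_contra hc
  push_neg at hc
  have h1 := countP_le_of_cover (w.testBit ·) _ 56 sets_perm.1 sets_perm.2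
  simp only [List.countP_append, List.countP_map, ← pc_eq_countP] at h1
  have a := hc 0 (by omega)
  have b := hc 1 (by omega)
  have c := hc 2 (by omega)
  simp only [Function.comp_def] at h1
  omega

/-- the column of lifts modulo four, unpacked -/
def g4d (q j : ℕ) : ℕ := (g4List.getD q 0 >>> (8 * j)) &&& 255

/-- the packed sum over the odd coordinates -/
def tPack (w : ℕ) : ℕ :=
  ((List.range 56).filter fun q => w.testBit q).foldr (fun q s => g4List.getD q 0 + s) 0

/-- the syndrome of a class -/
def tSyn (w : ℕ) : ℕ := Nat.ofBits fun j : Fin 19 => (tPack w).testBit (8 * j.val + 1)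

/-- a column -/
def colS (q : ℕ) : ℕ := Nat.land (Nat.shiftRight synPack (Nat.mul 20 q)) 524287

theorem colS_lt : ∀ q < 56, colS q < 2 ^ 19 := by decide +kernel

theorem g4_digits : ∀ q < 56, g4List.getD q 0 =
    ∑ j ∈ Finset.range 19, g4d q j * 256 ^ j ∧ ∀ j < 19, g4d q j < 4 := by decide +kernel

/-- a lift as a vector -/
def lift (j : ℕ) : RuVec :=
  fun p => ⟨(liftCert.getD j []).getD (2 * code p) 0, (liftCert.getD j []).getD (2 * code p + 1) 0⟩

theorem lift_facts : ∀ j < 19, ∀ q < 56, co (lift j) q % 4 = (g4d q j : ℤ) ∧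
    co (lift j) q % 2 = ((colS q).testBit j).toNat := by decide +kernel

/-- evaluate a lift from the basis -/
def liftEval (j : ℕ) : RuVec := combL (liftComb.getD j [])

theorem lift_eq : ∀ j < 19, eqB (lift j) (liftEval j) := by decide +kernel

theorem lift_mem {j : ℕ} (hj : j < 19) : lift j ∈ span := by
  rw [(lift_eq j hj).eq]; exact combL_mem _

theorem foldr_add_eq (f : ℕ → ℕ) : ∀ l : List ℕ, l.foldr (fun q s => f q + s) 0 = (l.map f).sum
  | [] => rfl
  | a :: l => by simp [foldr_add_eq f l]

theorem list_sum_filter (f : ℕ → ℕ) (P : ℕ → Bool) : ∀ n, (((List.range n).filter P).map f).sum =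
    ∑ q ∈ Finset.range n, (P q).toNat * f q
  | 0 => by simp
  | n + 1 => by
    rw [List.range_succ, List.filter_append, List.map_append, List.sum_append, list_sum_filter f P n,
      Finset.sum_range_succ]
    cases h : P n <;> simp [h]

theorem packed_bit (G : ℕ → ℕ) (f : ℕ → ℕ → ℕ) (P : ℕ → Bool) (n N j : ℕ) (hj : j < N)
    (hG : ∀ q < n, G q = ∑ k ∈ Finset.range N, f q k * 256 ^ k)
    (hf : ∀ q < n, ∀ k < N, f q k < 4) (hn : 3 * n < 256) :
    (((List.range n).filter P).map G).sum.testBit (8 * j + 1) =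
      decide ((∑ q ∈ Finset.range n, (P q).toNat * f q j) / 2 % 2 = 1) := by
  let S : ℕ → ℕ := fun k => if k < N then ∑ q ∈ Finset.range n, (P q).toNat * f q k else 0
  have hS : ∀ k, k < N → S k = ∑ q ∈ Finset.range n, (P q).toNat * f q k := fun k hk => if_pos hk
  have hb : ∀ k, S k < 256 := fun k => by
    by_cases hk : k < N
    · rw [hS k hk]
      refine lt_of_le_of_lt (Finset.sum_le_sum (g := fun _ => 3) fun q hq => ?_) (by simpa [Nat.mul_comm] using hn)
      have := hf q (Finset.mem_range.1 hq) k hk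
      cases P q <;> simp <;> omega
    · show (if k < N then _ else 0) < 256
      rw [if_neg hk]; norm_num
  have e : (((List.range n).filter P).map G).sum = ∑ k ∈ Finset.range N, S k * 256 ^ k := by
    rw [list_sum_filter]
    calc ∑ q ∈ Finset.range n, (P q).toNat * G q
        = ∑ q ∈ Finset.range n, ∑ k ∈ Finset.range N, (P q).toNat * f q k * 256 ^ k :=
          Finset.sum_congr rfl fun q hq => by
            rw [hG q (Finset.mem_range.1 hq), Finset.mul_sum]
            exact Finset.sum_congr rfl fun k _ => (Nat.mul_assoc _ _ _).symm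
      _ = ∑ k ∈ Finset.range N, ∑ q ∈ Finset.range n, (P q).toNat * f q k * 256 ^ k := Finset.sum_comm
      _ = ∑ k ∈ Finset.range N, S k * 256 ^ k :=
          Finset.sum_congr rfl fun k hk => by rw [hS k (Finset.mem_range.1 hk), Finset.sum_mul]
  have hd := (digit_sum 256 (by norm_num) S hb N).2 j hj
  rw [← e, hS j hj] at hd
  have hp : (256 : ℕ) ^ j = 2 ^ (8 * j) := by rw [pow_mul]; norm_num
  rw [Nat.testBit_eq_decide_div_mod_eq, pow_succ, ← Nat.div_div_eq_div_mul, ← hp]
  congr 1
  rw [eq_iff_iff, ← hd]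
  omega

theorem tSyn_bit (x : RuVec) {j : ℕ} (hj : j < 19) :
    (tSyn (mask x)).testBit j =
      decide ((∑ q ∈ Finset.range 56, (oddB x q).toNat * g4d q j) / 2 % 2 = 1) := by
  rw [tSyn, Nat.testBit_ofBits_lt _ j hj, tPack, foldr_add_eq,
    List.filter_congr (fun q hq => testBit_mask x (List.mem_range.1 hq))]
  exact packed_bit _ g4d (oddB x) 56 19 j hj (fun q hq => (g4_digits q hq).1)
    (fun q hq => (g4_digits q hq).2) (by norm_num)

/-- the syndrome relation -/
theorem syndrome {x : RuVec} (hx : x ∈ span) :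
    xorL colS ((List.range 56).filter (highB x)) = tSyn (mask x) := by
  refine Nat.eq_of_testBit_eq fun j => ?_
  rcases lt_or_ge j 19 with hj | hj
  · rw [tSyn_bit x hj]
    have h4 := four_dvd_dot hx (lift_mem hj)
    rw [dot_eq_co] at h4
    set Sa := ∑ q ∈ Finset.range 56, (oddB x q).toNat * g4d q j with hSa
    set Sb := ∑ q ∈ Finset.range 56, (highB x q).toNat * ((colS q).testBit j).toNat with hSb
    have key : (4 : ℤ) ∣ ∑ q ∈ Finset.range 56, co x q * co (lift j) q - ((Sa : ℤ) + 2 * Sb) := by
      rw [hSa, hSb, Nat.cast_sum, Nat.cast_sum, Finset.mul_sum, ← Finset.sum_add_distrib,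
        ← Finset.sum_sub_distrib]
      refine Finset.dvd_sum fun q hq => ?_
      obtain ⟨f1, f2⟩ := lift_facts j hj q (Finset.mem_range.1 hq)
      obtain ⟨k, hk⟩ : ∃ k, co x q = 4 * k + co x q % 4 := ⟨co x q / 4, by omega⟩
      obtain ⟨m, hm⟩ : ∃ m, co (lift j) q = 4 * m + (g4d q j : ℤ) :=
        ⟨co (lift j) q / 4, by omega⟩
      have hb := (g4_digits q (Finset.mem_range.1 hq)).2 j hj
      have h1 := Int.emod_nonneg (co x q) (show (4 : ℤ) ≠ 0 by norm_num)
      have h2 := Int.emod_lt_of_pos (co x q) (show (0 : ℤ) < 4 by norm_num)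
      have hpar : ((colS q).testBit j).toNat = g4d q j % 2 := by omega
      rw [oddB_eq, highB_eq, hpar]
      have e0 : co x q * co (lift j) q = 4 * (k * co (lift j) q + (co x q % 4) * m) +
          (co x q % 4) * (g4d q j : ℤ) := by
        conv_lhs => rw [hk, hm]
        rw [hm]; ring
      rw [e0, show co x q % 2 = co x q % 4 % 2 by omega]
      generalize k * co (lift j) q + co x q % 4 * m = z
      interval_cases (co x q % 4) <;> simp <;> omega
    have hpar := testBit_xorL colS j ((List.range 56).filter (highB x))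
    rw [list_sum_filter, ← hSb] at hpar
    by_cases hb : (xorL colS ((List.range 56).filter (highB x))).testBit j = true
    · rw [hb] at hpar ⊢
      simp only [Bool.toNat_true] at hpar
      exact (decide_eq_true (by omega)).symm
    · rw [Bool.not_eq_true] at hb
      rw [hb] at hpar ⊢
      simp only [Bool.toNat_false] at hpar
      exact (decide_eq_false (by omega)).symm
  · rw [Nat.testBit_lt_two_pow (lt_of_lt_of_le (xorL_lt colS 19 _ fun q hq => colS_lt q
      (List.mem_range.1 (List.mem_of_mem_filter hq))) (Nat.pow_le_pow_right (by norm_num) hj)),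
      tSyn, Nat.testBit_ofBits_ge _ _ hj]

end Cfsg.Agent.RuAut
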