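import Cfsg.Agent.RuAut.CheckEnum
import Cfsg.Agent.RuAut.CheckClass0
import Cfsg.Agent.RuAut.CheckClass1
import Cfsg.Agent.RuAut.CheckClass2
import Cfsg.Agent.RuAut.CheckClass3

set_option autoImplicit false

/-! Every lattice vector of stored norm 16 occurs in the table. -/

open Cfsg.Spor

namespace Cfsg.Agent.RuAut

open RuLat

attribute [local irreducible] goodW memS offs tSyn colS classTab pairTab

theorem class_all : classTab.all (fun _ w v => classOk w v) = true :=
  KTab.all_split class_root (KTab.all_split class_rootL class_ok0 class_ok1)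
    (KTab.all_split class_rootR class_ok2 class_ok3)

theorem encW_eq_zero {w : ℕ} : ∀ (m : List (ℕ × ℕ)),
    m.countP (fun pb => w.testBit pb.1) = 0 → encW m w = 0 := by
  intro m
  induction m with
  | nil => intro _; rfl
  | cons a m ih =>
    intro hm
    rw [List.countP_cons] at hm
    cases hb : w.testBit a.1
    · simp only [hb] at hm
      simp [encW, hb, ih (by simpa using hm)]
    · simp [hb] at hm

theorem combos_spec (w : ℕ) : ∀ (l : List (ℕ × ℕ)) (k v : ℕ), combos l k v = true →
    l.countP (fun pb => w.testBit pb.1) ≤ k → goodW (v ^^^ encW l w) = true := by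
  intro l
  induction l with
  | nil =>
    intro k v h _
    rw [encW, Nat.xor_zero]
    rwa [combos] at h
  | cons pb l ih =>
    intro k v h hc
    cases k with
    | zero =>
      rw [encW_eq_zero _ (Nat.le_zero.1 hc), Nat.xor_zero]
      rwa [combos] at h
    | succ k =>
      rw [combos, Bool.and_eq_true] at h
      rw [List.countP_cons] at hc
      cases hb : w.testBit pb.1
      · simp only [hb] at hc
        rw [encW, hb]
        simpa using ih (k + 1) v h.1 (by simpa using hc)
      · simp only [hb, if_true] at hc
        rw [encW, hb, cond_true, ← Nat.xor_assoc]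
        exact ih k _ h.2 (by omega)

theorem class_mem {x : RuVec} (hx : x ∈ span) (h : pc (mask x) ≤ 16) :
    mask x = 0 ∨ 0 < classTab.find (mask x) := by
  obtain ⟨j, hj, hc⟩ := exists_light (mask x) h
  have hok : combos (infoSets.getD j []) 5 0 = true := by
    rcases (by omega : j = 0 ∨ j = 1 ∨ j = 2) with rfl | rfl | rfl
    exacts [combos_ok0, combos_ok1, combos_ok2]
  have := combos_spec (mask x) _ _ _ hok hc
  rw [Nat.zero_xor, enc_mask hx hj] at this
  unfold goodW at this
  simp only [Bool.or_eq_true] at this
  rcases this with (h1 | h1) | h1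
  · exact absurd (lt_blt h1) (by omega)
  · exact .inl (Nat.eq_of_beq_eq_true h1)
  · exact .inr (lt_blt h1)

theorem pair_find : ∀ l : List ℕ, l.Pairwise (· < ·) → (∀ q ∈ l, q < 56) → l.length ≤ 2 →
    pairTab.find (xorL colS l) = (match l with
      | [] => 56 * 64 + 56 + 1
      | [a] => 56 * 64 + a + 1
      | a :: b :: _ => a * 64 + b + 1)
  | [], _, _, _ => Nat.eq_of_beq_eq_true pair_zero
  | [a], _, hl, _ => by
    rw [xorL_cons, xorL_nil, Nat.xor_zero]
    exact Nat.eq_of_beq_eq_true (List.all_eq_true.1 pair_one a (List.mem_range.2 (hl a (by simp))))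
  | [a, b], hp, hl, _ => by
    rw [xorL_cons, xorL_cons, xorL_nil, Nat.xor_zero]
    have := List.all_eq_true.1 (List.all_eq_true.1 pair_two a (List.mem_range.2 (hl a (by simp))))
      b (List.mem_range.2 (hl b (by simp)))
    rw [blt_true (by simpa using hp)] at this
    exact Nat.eq_of_beq_eq_true (by simpa using this)
  | _ :: _ :: _ :: _, _, _, h => by simp at h

theorem pair_ne : ∀ l : List ℕ, l.Pairwise (· < ·) → (∀ q ∈ l, q < 56) → l.length ≤ 4 →
    l ≠ [] → xorL colS l ≠ 0
  | [], _, _, _, h, _ => h rfl
  | [a], hp, hl, _, _, h => by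
    have e := pair_find [a] hp hl (by simp)
    rw [h, Nat.eq_of_beq_eq_true pair_zero] at e
    have := hl a (by simp)
    simp only at e; omega
  | [a, b], hp, hl, _, _, h => by
    have e := pair_find [a, b] hp hl (by simp)
    rw [h, Nat.eq_of_beq_eq_true pair_zero] at e
    have := hl a (by simp); have := hl b (by simp)
    simp only at e; omega
  | [a, b, c], hp, hl, _, _, h => by
    simp only [List.pairwise_cons] at hp
    have e1 := pair_find [a, b] (by simp [hp.1 b]) (fun q hq => hl q (by revert hq; simp; tauto)) (by simp)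
    have e2 := pair_find [c] (by simp) (fun q hq => hl q (by revert hq; simp; tauto)) (by simp)
    rw [show [a, b, c] = [a, b] ++ [c] from rfl, xorL_append] at h
    rw [Nat.xor_eq_zero_iff.1 h, e2] at e1
    have := hl a (by simp); have := hl b (by simp); have := hl c (by simp)
    simp only at e1; omega
  | [a, b, c, d], hp, hl, _, _, h => by
    simp only [List.pairwise_cons] at hp
    have e1 := pair_find [a, b] (by simp [hp.1 b]) (fun q hq => hl q (by revert hq; simp; tauto)) (by simp)
    have e2 := pair_find [c, d] (by simp [hp.2.2.1 d]) (fun q hq => hl q (by revert hq; simp; tauto)) (by simp)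
    rw [show [a, b, c, d] = [a, b] ++ [c, d] from rfl, xorL_append] at h
    rw [Nat.xor_eq_zero_iff.1 h, e2] at e1
    have := hl a (by simp); have := hl b (by simp); have := hl c (by simp); have := hl d (by simp)
    have := hp.1 c (by simp)
    simp only at e1; omega
  | _ :: _ :: _ :: _ :: _ :: _, _, _, h, _, _ => by simp only [List.length_cons] at h; omega

theorem avoid_spec : ∀ (l : List ℕ) (t : ℕ) (P : ℕ → Bool), avoid l t = true →
    pairTab.find (t ^^^ xorL colS (l.filter P)) = 0
  | [], t, P, h => by simpa [xorL_nil, avoid] using h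
  | q :: l, t, P, h => by
    simp only [avoid, Bool.and_eq_true] at h
    cases hP : P q
    · simpa [List.filter_cons, hP] using avoid_spec l t P h.1
    · simpa [List.filter_cons, hP, xorL_cons, Nat.xor_assoc] using avoid_spec l _ P h.2

theorem walk_spec : ∀ (l : List (ℕ × ℕ)) (t K : ℕ) (P : ℕ → Bool), seqOk l = true →
    walk l t K = true → t = xorL colS ((l.map Prod.fst).filter P) →
      memS (K - 2 * (((l.map Prod.fst).filter P).map fun q => 64 ^ q).sum) = true
  | [], t, K, P, _, hw, ht => by
    simp only [List.map_nil, List.filter_nil, xorL_nil] at ht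
    subst ht
    simpa [walk] using hw
  | qm :: r, t, K, P, hs, hw, ht => by
    simp only [seqOk, Bool.and_eq_true, List.all_eq_true] at hs
    simp only [walk, Bool.and_eq_true, Bool.or_eq_true] at hw
    have hz : par (qm.2 &&& xorL colS ((r.map Prod.fst).filter P)) = false :=
      par_xorL _ _ _ fun q hq => by
        obtain ⟨e, he, rfl⟩ := List.mem_map.1 (List.mem_of_mem_filter hq)
        simpa using hs.1 e he
    cases hP : P qm.1
    · simp only [List.map_cons, List.filter_cons, hP] at ht ⊢
      rcases hw.1 with h | h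
      · rw [ht] at h; simp [hz] at h
      · simpa using walk_spec r t K P hs.2 h (by simpa using ht)
    · simp only [List.map_cons, List.filter_cons, hP, if_true, xorL_cons] at ht ⊢
      have ht' : t ^^^ colS qm.1 = xorL colS ((r.map Prod.fst).filter P) := by
        rw [ht, Nat.xor_comm, ← Nat.xor_assoc, Nat.xor_self, Nat.zero_xor]
      rcases hw.2 with h | h
      · rw [ht'] at h; simp [hz] at h
      · have := walk_spec r _ _ P hs.2 h ht'
        rw [Nat.sub_sub, ← Nat.mul_add] at this
        simpa using this

theorem offs_eq : offs = ∑ q ∈ Finset.range 56, 32 * 64 ^ q := by decide +kernel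

theorem co_bound {x : RuVec} (h : dot x x = 16) {q : ℕ} (hq : q < 56) :
    -4 ≤ co x q ∧ co x q ≤ 4 := by
  have := h ▸ co_sq_le x hq
  constructor <;> nlinarith

theorem highB_lt {x : RuVec} {q : ℕ} (h : q ∈ (List.range 56).filter (highB x)) : q < 56 :=
  List.mem_range.1 (List.mem_of_mem_filter h)

theorem weight_bound {x : RuVec} (h : dot x x = 16) :
    (∑ q ∈ Finset.range 56, (oddB x q).toNat) +
      4 * (∑ q ∈ Finset.range 56, (highB x q && !oddB x q).toNat) ≤ 16 := by
  have : (((∑ q ∈ Finset.range 56, (oddB x q).toNat) +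
      4 * (∑ q ∈ Finset.range 56, (highB x q && !oddB x q).toNat) : ℕ) : ℤ) ≤ dot x x := by
    rw [dot_eq_co, Nat.cast_add, Nat.cast_mul, Nat.cast_sum, Nat.cast_sum, Finset.mul_sum,
      ← Finset.sum_add_distrib]
    refine Finset.sum_le_sum fun q hq => ?_
    obtain ⟨h1, h2⟩ := co_bound h (Finset.mem_range.1 hq)
    rw [oddB_eq, highB_eq]
    interval_cases (co x q) <;> norm_num
  omega

theorem filter_length (P : ℕ → Bool) : ∀ n, ((List.range n).filter P).length =
    ∑ q ∈ Finset.range n, (P q).toNat
  | 0 => rfl
  | n + 1 => by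
    rw [List.range_succ, List.filter_append, List.length_append, filter_length P n,
      Finset.sum_range_succ]
    cases hP : P n <;> simp [hP]

theorem sorted_filter (P : ℕ → Bool) : ((List.range 56).filter P).Pairwise (· < ·) :=
  List.Pairwise.sublist List.filter_sublist List.pairwise_lt_range

theorem eq_sub_of_add {a b c : ℕ} (h : a + b = c) : a = c - b := by omega

theorem frameKey_true (q : ℕ) : frameKey true q = offs + 4 * 64 ^ q := rfl

theorem frameKey_false (q : ℕ) : frameKey false q = offs - 4 * 64 ^ q := rfl

theorem mem_of_signed {a b o c : ℕ} (h : a + 2 * b = o + c) (hm : memS (o + c - 2 * b) = true) :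
    memS a = true := by
  rwa [← h, Nat.add_sub_cancel] at hm

/-- the even class -/
theorem complete_even {x : RuVec} (hx : x ∈ span) (h : dot x x = 16) (hm : mask x = 0) :
    memS (key x) = true := by
  have hodd : ∀ q < 56, oddB x q = false := fun q hq => by
    rw [← testBit_mask x hq, hm, Nat.zero_testBit]
  have hs := syndrome hx
  rw [hm] at hs
  have h0 : tSyn 0 = 0 := by decide +kernel
  rw [h0] at hs
  have hnil : (List.range 56).filter (highB x) = [] := by
    by_contra hne
    refine pair_ne _ (sorted_filter _) (fun q hq => highB_lt hq) ?_ hne hs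
    rw [filter_length]
    have := weight_bound h
    have e : ∑ q ∈ Finset.range 56, (highB x q && !oddB x q).toNat =
        ∑ q ∈ Finset.range 56, (highB x q).toNat :=
      Finset.sum_congr rfl fun q hq => by simp [hodd q (Finset.mem_range.1 hq)]
    omega
  have hval : ∀ q < 56, co x q = 0 ∨ co x q = 4 ∨ co x q = -4 := fun q hq => by
    have h1 := hodd q hq
    have h2 : highB x q = false := by
      simpa using List.filter_eq_nil_iff.1 hnil q (List.mem_range.2 hq)
    rw [oddB_eq] at h1
    rw [highB_eq] at h2
    simp only [decide_eq_false_iff_not] at h1 h2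
    have := co_bound h hq
    omega
  obtain ⟨q, hq, hq0⟩ : ∃ q < 56, co x q ≠ 0 := by
    by_contra hc
    push_neg at hc
    rw [dot_eq_co, Finset.sum_eq_zero (fun q hq => by simp [hc q (Finset.mem_range.1 hq)])] at h
    norm_num at h
  have hrest : ∀ p < 56, p ≠ q → co x p = 0 := fun p hp hpq => by
    by_contra hp0
    have hsum : co x q * co x q + co x p * co x p ≤ dot x x := by
      rw [dot_eq_co, ← Finset.sum_pair (Ne.symm hpq) (f := fun q => co x q * co x q)]
      refine Finset.sum_le_sum_of_subset_of_nonneg ?_ fun i _ _ => mul_self_nonneg _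
      simp [Finset.insert_subset_iff, hp, hq]
    rw [h] at hsum
    rcases hval q hq with a | a | a <;> rcases hval p hp with b | b | b <;>
      first
        | exact hq0 a
        | exact hp0 b
        | (rw [a, b] at hsum; norm_num at hsum)
  have hk : key x + 4 * 64 ^ q * (if co x q = 4 then 0 else 1) =
      offs + 4 * 64 ^ q * (if co x q = 4 then 1 else 0) := by
    rw [key, offs_eq, ← Finset.sum_erase_add _ _ (Finset.mem_range.2 hq),
      ← Finset.sum_erase_add _ (fun q => 32 * 64 ^ q) (Finset.mem_range.2 hq)]
    rw [Finset.sum_congr rfl (g := fun p => 32 * 64 ^ p) fun p hp => by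
      simp [hrest p (Finset.mem_range.1 (Finset.mem_of_mem_erase hp)) (Finset.ne_of_mem_erase hp)]]
    rcases hval q hq with a | a | a
    · exact absurd a hq0
    · simp [a]; ring
    · simp [a]; ring
  have hf := List.all_eq_true.1 frame_ok q (List.mem_range.2 hq)
  rw [Bool.and_eq_true] at hf
  rcases hval q hq with a | a | a
  · exact absurd a hq0
  · rw [if_pos a, if_pos a, Nat.mul_zero, Nat.add_zero, Nat.mul_one] at hk
    rw [hk, ← frameKey_true]; exact hf.1
  · rw [if_neg (by omega), if_neg (by omega), Nat.mul_one, Nat.mul_zero, Nat.add_zero] at hk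
    rw [eq_sub_of_add hk, ← frameKey_false]; exact hf.2

/-- a class of weight eight does not occur -/
theorem no_eight {x : RuVec} (hx : x ∈ span) (h : dot x x = 16) (hw : pc (mask x) = 8)
    (ha : avoid ((List.range 56).filter ((mask x).testBit ·)) (tSyn (mask x)) = true) : False := by
  have hA : (List.range 56).filter ((mask x).testBit ·) = (List.range 56).filter (oddB x) :=
    List.filter_congr fun q hq => testBit_mask x (List.mem_range.1 hq)
  rw [hA] at ha
  have e := avoid_spec _ _ (highB x) ha
  have hsplit : ((List.range 56).filter (highB x)).Perm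
      (((List.range 56).filter (oddB x)).filter (highB x) ++
        (List.range 56).filter (fun q => highB x q && !oddB x q)) := by
    refine ((List.filter_append_perm (oddB x) ((List.range 56).filter (highB x))).symm).trans ?_
    rw [List.filter_filter, List.filter_filter, List.filter_filter]
    refine List.Perm.of_eq ?_
    congr 1 <;> refine List.filter_congr fun q _ => ?_ <;> simp [Bool.and_comm]
  have hs := syndrome hx
  rw [xorL_perm _ hsplit, xorL_append] at hs
  rw [← hs] at e
  rw [Nat.xor_comm (xorL _ _) (xorL _ _), Nat.xor_assoc, Nat.xor_self, Nat.xor_zero] at e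
  have hw' : ∑ q ∈ Finset.range 56, (oddB x q).toNat = 8 := by
    rw [← hw, pc_eq]
    exact Finset.sum_congr rfl fun q hq => by rw [testBit_mask x (Finset.mem_range.1 hq)]
  have := weight_bound h
  have hl := pair_find ((List.range 56).filter (fun q => highB x q && !oddB x q)) (sorted_filter _)
    (fun q hq => List.mem_range.1 (List.mem_of_mem_filter hq)) (by rw [filter_length]; omega)
  rw [e] at hl
  split at hl <;> omega

theorem sixteen_facts {x : RuVec} (h : dot x x = 16) (hw : pc (mask x) = 16) :
    ∀ q < 56, (co x q = 0 ∧ oddB x q = false ∧ highB x q = false) ∨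
      (co x q = 1 ∧ oddB x q = true ∧ highB x q = false) ∨
      (co x q = -1 ∧ oddB x q = true ∧ highB x q = true) := by
  have hterm : ∀ q ∈ Finset.range 56, ((oddB x q).toNat : ℤ) ≤ co x q * co x q := fun q hq => by
    obtain ⟨h1, h2⟩ := co_bound h (Finset.mem_range.1 hq)
    rw [oddB_eq]
    interval_cases (co x q) <;> norm_num
  have heq : ∑ q ∈ Finset.range 56, ((oddB x q).toNat : ℤ) =
      ∑ q ∈ Finset.range 56, co x q * co x q := by
    rw [← dot_eq_co, h, ← Nat.cast_sum]
    have : ∑ q ∈ Finset.range 56, (oddB x q).toNat = 16 := by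
      rw [← hw, pc_eq]
      exact Finset.sum_congr rfl fun q hq => by rw [testBit_mask x (Finset.mem_range.1 hq)]
    rw [this]; rfl
  intro q hq
  have hq' := (Finset.sum_eq_sum_iff_of_le hterm).1 heq q (Finset.mem_range.2 hq)
  obtain ⟨h1, h2⟩ := co_bound h hq
  rw [oddB_eq] at hq' ⊢
  rw [highB_eq]
  interval_cases (co x q) <;> simp_all

/-- the main case -/
theorem complete_sixteen {x : RuVec} (h : dot x x = 16) (hw : pc (mask x) = 16)
    {l : List (ℕ × ℕ)} (hr : remBits (l.map Prod.fst) (mask x) = true)
    (hlt : ∀ e ∈ l, e.1 < 56) (hs : seqOk l = true)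
    (hk : walk l (tSyn (mask x)) (offs + ((l.map Prod.fst).map fun q => 64 ^ q).sum) = true)
    (hx : x ∈ span) : memS (key x) = true := by
  obtain ⟨hnd, hmem⟩ := remBits_spec hr
  have hlt' : ∀ q ∈ l.map Prod.fst, q < 56 := fun q hq => by
    obtain ⟨e, he, rfl⟩ := List.mem_map.1 hq; exact hlt e he
  have fx := sixteen_facts h hw
  have hpA : (l.map Prod.fst).Perm ((List.range 56).filter (oddB x)) := by
    rw [List.perm_ext_iff_of_nodup hnd (List.nodup_range.filter _)]
    intro q
    rw [hmem, List.mem_filter, List.mem_range]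
    constructor
    · intro ht
      have hq := hlt' q ((hmem q).2 ht)
      exact ⟨hq, by rwa [← testBit_mask x hq]⟩
    · rintro ⟨hq, ho⟩
      rwa [testBit_mask x hq]
  have hpB : ((l.map Prod.fst).filter (highB x)).Perm ((List.range 56).filter (highB x)) := by
    refine (hpA.filter _).trans (List.Perm.of_eq ?_)
    rw [List.filter_filter]
    refine List.filter_congr fun q hq => ?_
    rcases fx q (List.mem_range.1 hq) with ⟨-, a, b⟩ | ⟨-, a, b⟩ | ⟨-, a, b⟩ <;> simp [a, b]
  have ht : tSyn (mask x) = xorL colS ((l.map Prod.fst).filter (highB x)) := by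
    rw [xorL_perm _ hpB, syndrome hx]
  have := walk_spec l _ _ (highB x) hs hk ht
  rw [(hpA.map _).sum_eq, (hpB.map _).sum_eq, list_sum_filter, list_sum_filter] at this
  have hkey : key x + 2 * ∑ q ∈ Finset.range 56, (highB x q).toNat * 64 ^ q =
      offs + ∑ q ∈ Finset.range 56, (oddB x q).toNat * 64 ^ q := by
    rw [key, offs_eq, Finset.mul_sum, ← Finset.sum_add_distrib, ← Finset.sum_add_distrib]
    refine Finset.sum_congr rfl fun q hq => ?_
    rcases fx q (Finset.mem_range.1 hq) with ⟨c, a, b⟩ | ⟨c, a, b⟩ | ⟨c, a, b⟩ <;>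
      simp [c, a, b] <;> ring
  exact mem_of_signed hkey this

/-- completeness of the table -/
theorem complete {x : RuVec} (hx : x ∈ span) (h : dot x x = 16) : memS (key x) = true := by
  have hA : pc (mask x) = ∑ q ∈ Finset.range 56, (oddB x q).toNat := by
    rw [pc_eq]
    exact Finset.sum_congr rfl fun q hq => by rw [testBit_mask x (Finset.mem_range.1 hq)]
  have hb := weight_bound h
  rcases class_mem hx (by omega) with hm | hm
  · exact complete_even hx h hm
  obtain ⟨_, hok⟩ := KTab.find_all class_all hm
  set v := classTab.find (mask x) - 1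
  simp only [classOk] at hok
  cases h0 : Nat.beq v 0
  · simp only [h0, cond_false] at hok
    cases h1 : Nat.blt v 524288
    · simp only [h1, cond_false, Bool.and_eq_true, List.all_eq_true] at hok
      obtain ⟨⟨⟨⟨a, b⟩, c⟩, d⟩, e⟩ := hok
      exact complete_sixteen h (Nat.eq_of_beq_eq_true a) b (fun e he => lt_blt (c e he)) d e hx
    · simp only [h1, cond_true, Bool.and_eq_true, List.all_eq_true] at hok
      obtain ⟨⟨a, b⟩, c⟩ := hok
      have fx := sixteen_facts h (Nat.eq_of_beq_eq_true a)
      have hz : par (v &&& xorL colS ((List.range 56).filter (highB x))) = false := by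
        refine par_xorL _ _ _ fun q hq => ?_
        rw [List.mem_filter, List.mem_range] at hq
        have ho : oddB x q = true := by
          rcases fx q hq.1 with ⟨-, o, b⟩ | ⟨-, o, b⟩ | ⟨-, o, b⟩ <;> simp_all
        simpa using b q (List.mem_filter.2 ⟨List.mem_range.2 hq.1, by rwa [testBit_mask x hq.1]⟩)
      rw [syndrome hx, c] at hz
      exact Bool.noConfusion hz
  · simp only [h0, cond_true, Bool.and_eq_true] at hok
    exact (no_eight hx h (Nat.eq_of_beq_eq_true hok.1) hok.2).elim

end Cfsg.Agent.RuAut
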