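import Cfsg.Agent.RuAut.CheckSpan

set_option autoImplicit false

/-! The lattice equals the span of the basis. -/

open Cfsg.Spor

namespace Cfsg.Agent.RuAut

open RuLat

theorem wV_mem : ∀ k < 99, wV k ∈ ruLattice := by
  intro k
  induction k using Nat.strong_induction_on with
  | _ k ih =>
    intro hk
    rw [ruLattice, AddSubgroup.mem_sInf]
    intro L hL
    rcases lt_or_ge k 20 with h | h
    · rw [(w_table k h).eq, List.getD_eq_getElem _ _ (by rw [RuLat.table_length]; exact h)]
      exact hL.1 _ (List.getElem_mem _)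
    · obtain ⟨j, rfl⟩ := Nat.exists_eq_add_of_le h
      obtain ⟨hp, he⟩ := w_step j (by omega)
      have hm := ih _ hp (by omega)
      rw [ruLattice, AddSubgroup.mem_sInf] at hm
      obtain ⟨c0, c1, c2, c3, c4⟩ := hL.2 _ (hm L hL)
      rw [he.eq]
      generalize (wSteps.getD j (0, 0)).1 = o
      rcases o with _ | _ | _ | _ | o <;> simp only [opF]
      exacts [gI_smul _ ▸ c0, c1, c2, c3, c4]

/-- a combination of closure vectors -/
def wComb : List (ℕ × ℤ) → RuVec
  | [] => 0
  | e :: l => e.2 • wV e.1 + wComb l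

theorem wComb_mem : ∀ l : List (ℕ × ℤ), (∀ e ∈ l, e.1 < 99) → wComb l ∈ ruLattice
  | [], _ => zero_mem _
  | e :: l, h => add_mem (zsmul_mem (wV_mem _ (h e (List.mem_cons_self ..))) _)
      (wComb_mem l fun a ha => h a (List.mem_cons_of_mem _ ha))

theorem packZ_wComb : ∀ l : List (ℕ × ℤ), (∀ e ∈ l, e.1 < 99) →
    packZ (2 ^ 32) (wComb l) = wComb32 l
  | [], _ => map_zero _
  | e :: l, h => by
    rw [wComb, map_add, map_zsmul, smul_eq_mul, packZ_wComb l fun a ha => h a (List.mem_cons_of_mem _ ha),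
      w32_ok e.1 (h e (List.mem_cons_self ..))]
    rfl

theorem wComb_bound (r : ℕ) (hr : r < 56) : ∀ l : List (ℕ × ℤ), |co (wComb l) r| ≤ (wBd l : ℤ)
  | [] => by simp [wComb, wBd, co_zero]
  | e :: l => by
    have h1 := wComb_bound r hr l
    have h2 : |co (wV e.1) r| ≤ 32 := by
      rw [wV, co_vecK _ hr, abs_le]
      have := dg_bound (wKeys.getD e.1 0) r
      omega
    rw [wComb, co_add, co_zsmul, wBd, Nat.cast_add, Nat.cast_mul]
    refine (abs_add_le _ _).trans (add_le_add ?_ h1)
    rw [abs_mul]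
    exact mul_le_mul (by simp) h2 (abs_nonneg _) (by simp)

theorem rowV_bound16 : ∀ r < 56, ∀ q < 56, |co (rowV r) q| ≤ 16 := by decide +kernel

theorem span_eq : ruLattice = span := by
  refine le_antisymm ruLattice_le ?_
  rw [span, AddSubgroup.closure_le]
  rintro _ ⟨r, rfl⟩
  rcases rowV_cases r with h | h
  · rw [SetLike.mem_coe, h]; exact zero_mem _
  have ok := List.all_eq_true.1 span_ok r (List.mem_range.2 h)
  simp only [spanOk, Bool.and_eq_true, List.all_eq_true, decide_eq_true_eq] at ok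
  obtain ⟨⟨e, hlt⟩, hb⟩ := ok
  rw [SetLike.mem_coe, packZ_inj (B := (2 : ℤ) ^ 32) (x := rowV r)
    (y := wComb (decW 120 (spanCert.getD r 0))) (by rw [packZ_wComb _ fun a ha => lt_blt (hlt a ha)]; exact e) fun q hq => ?_]
  · exact wComb_mem _ fun a ha => lt_blt (hlt a ha)
  · have h1 := abs_le.1 (rowV_bound16 r h q hq)
    have h2 := abs_le.1 (wComb_bound q hq (decW 120 (spanCert.getD r 0)))
    have h3 := lt_blt hb
    rw [show ((2 : ℤ) ^ 32) = 4294967296 from by norm_num]
    constructor <;> omega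

end Cfsg.Agent.RuAut
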