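import Cfsg.Agent.RuAut.CheckGen
import Cfsg.Agent.RuAut.CheckGram
import Cfsg.Agent.RuAut.Span

set_option autoImplicit false

/-! The generators as lattice automorphisms. -/

open Cfsg.Spor

namespace Cfsg.Agent.RuAut

open RuLat

theorem sum_two_mul {M : Type*} [AddCommMonoid M] (f : ℕ → M) : ∀ n, ∑ q ∈ Finset.range (2 * n), f q =
    ∑ k ∈ Finset.range n, (f (2 * k) + f (2 * k + 1))
  | 0 => by simp
  | n + 1 => by
    rw [show 2 * (n + 1) = 2 * n + 1 + 1 by omega, Finset.sum_range_succ, Finset.sum_range_succ,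
      sum_two_mul f n, Finset.sum_range_succ, add_assoc]

theorem map_range_sum {M : Type*} [AddCommMonoid M] (f : ℕ → M) : ∀ n,
    ((List.range n).map f).sum = ∑ q ∈ Finset.range n, f q
  | 0 => rfl
  | n + 1 => by
    rw [List.range_succ, List.map_append, List.sum_append, map_range_sum f n, Finset.sum_range_succ]
    simp

/-- dot product with a fixed vector -/
def dotHom (x : RuVec) : RuVec →+ ℤ := AddMonoidHom.mk' (dot x) (dot_add x)

theorem dot_sum {ι : Type*} (x : RuVec) (s : Finset ι) (f : ι → RuVec) :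
    dot x (∑ i ∈ s, f i) = ∑ i ∈ s, dot x (f i) := map_sum (dotHom x) f s

theorem basic {g : ℕ} (hg : g < 8) : (colKeys.getD g []).length = 56 ∧
    colSums.getD g 0 = (colKeys.getD g []).sum ∧
    (∀ q < 56, colK g q < 2 ^ 336 ∧ packZ (2 ^ 32) (colV g q) = (col32.getD g []).getD q 0) ∧
    ∀ k < 28, colV g (2 * k + 1) = iMul (colV g (2 * k)) := by
  have h := List.all_eq_true.1 col_basic g (List.mem_range.2 hg)
  simp only [colBasic, Bool.and_eq_true, List.all_eq_true, decide_eq_true_eq] at h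
  obtain ⟨⟨⟨a, b⟩, c⟩, d⟩ := h
  exact ⟨Nat.eq_of_beq_eq_true a, Nat.eq_of_beq_eq_true b,
    fun q hq => ⟨lt_blt (c q (List.mem_range.2 hq)).1, (c q (List.mem_range.2 hq)).2⟩,
    fun k hk => (d k (List.mem_range.2 hk)).eq⟩

theorem gram {g : ℕ} (hg : g < 8) {q r : ℕ} (hq : q < 56) (hr : r < 56) :
    dot (colV g q) (colV g r) = if q = r then 16 else 0 := by
  have aux : ∀ a b, a < 56 → b < 56 → b ≤ a → dot (colV g a) (colV g b) = if a = b then 16 else 0 := by
    intro a b ha hb hba
    have h := List.all_eq_true.1 (List.all_eq_true.1 (List.all_eq_true.1 gram_ok g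
      (List.mem_range.2 hg)) a (List.mem_range.2 ha)) b (List.mem_range.2 hb)
    rw [Bool.or_eq_true] at h
    rcases h with h | h
    · exact absurd (lt_blt h) (by omega)
    · rw [colV, colV, dot_of_dotL h]
      by_cases e : a = b
      · subst e; rw [if_pos rfl, show Nat.beq a a = true from Nat.beq_refl a]; rfl
      · rw [if_neg e, show Nat.beq a b = false from by
          cases hb' : Nat.beq a b
          · rfl
          · exact absurd (Nat.eq_of_beq_eq_true hb') e]
        rfl
  rcases le_total r q with h | h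
  · exact aux q r hq hr h
  · rw [dot_comm, aux r q hr hq h]
    by_cases e : q = r <;> simp [e, eq_comm]

/-- four times a generator -/
def psi (g : ℕ) : RuVec →+ RuVec :=
  AddMonoidHom.mk' (fun x => ∑ q ∈ Finset.range 56, co x q • colV g q) fun x y => by
    simp only [co_add, add_smul, Finset.sum_add_distrib]

theorem psi_apply (g : ℕ) (x : RuVec) :
    psi g x = ∑ q ∈ Finset.range 56, co x q • colV g q := rfl

theorem psi_dot {g : ℕ} (hg : g < 8) (x y : RuVec) : dot (psi g x) (psi g y) = 16 * dot x y := by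
  rw [psi_apply g y, dot_sum, dot_eq_co x y, Finset.mul_sum]
  refine Finset.sum_congr rfl fun r hr => ?_
  rw [dot_zsmul, dot_comm, psi_apply, dot_sum, Finset.sum_eq_single r]
  · rw [dot_zsmul, gram hg (Finset.mem_range.1 hr) (Finset.mem_range.1 hr), if_pos rfl]; ring
  · intro q hq hne
    rw [dot_zsmul, gram hg (Finset.mem_range.1 hr) (Finset.mem_range.1 hq), if_neg hne.symm, mul_zero]
  · intro h; exact absurd hr h

theorem iMul_iMul (x : RuVec) : iMul (iMul x) = -x := by
  funext p; refine Zsqrtd.ext ?_ ?_ <;> simp [iMul]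

theorem psi_iMul {g : ℕ} (hg : g < 8) (x : RuVec) : psi g (iMul x) = iMul (psi g x) := by
  rw [← iHom_apply (psi g x), psi_apply, psi_apply, map_sum, show (56 : ℕ) = 2 * 28 from rfl,
    sum_two_mul, sum_two_mul]
  refine Finset.sum_congr rfl fun k hk => ?_
  have hk' := Finset.mem_range.1 hk
  rw [map_zsmul, map_zsmul, iHom_apply, iHom_apply, co_iMul_re x k hk', co_iMul_im x k hk',
    (basic hg).2.2.2 k hk', iMul_iMul, smul_neg, neg_smul]
  abel

theorem packZ_combL : ∀ (l : List (ℕ × ℤ)), (∀ e ∈ l, e.1 < 56) →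
    packZ (2 ^ 32) (combL l) = comb32 l
  | [], _ => by
    have : combL [] = 0 := rfl
    rw [this, map_zero]; rfl
  | e :: l, h => by
    have : combL (e :: l) = e.2 • rowV e.1 + combL l := by
      funext p; apply Zsqrtd.ext <;> simp [combL]
    rw [this, map_add, map_zsmul, smul_eq_mul, packZ_combL l fun a ha => h a (List.mem_cons_of_mem _ ha)]
    have hr := List.all_eq_true.1 row32_ok e.1 (List.mem_range.2 (h e (List.mem_cons_self ..)))
    simp only [Bool.and_eq_true, decide_eq_true_eq] at hr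
    rw [hr.1]; rfl

theorem combL_bound {q : ℕ} (hq : q < 56) : ∀ (l : List (ℕ × ℤ)), (∀ e ∈ l, e.1 < 56) →
    |co (combL l) q| ≤ (combBd l : ℤ)
  | [], _ => by
    have : combL [] = 0 := rfl
    simp [this, co_zero, combBd]
  | e :: l, h => by
    have he : combL (e :: l) = e.2 • rowV e.1 + combL l := by
      funext p; apply Zsqrtd.ext <;> simp [combL]
    have h1 := combL_bound hq l fun a ha => h a (List.mem_cons_of_mem _ ha)
    have h2 := rowV_bound16 e.1 (h e (List.mem_cons_self ..)) q hq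
    rw [he, co_add, co_zsmul, combBd, Nat.cast_add, Nat.cast_mul]
    refine (abs_add_le _ _).trans (add_le_add ?_ h1)
    rw [abs_mul]
    exact mul_le_mul (by simp) (h2.trans (by norm_num)) (abs_nonneg _) (by simp)

theorem psi_row {g : ℕ} (hg : g < 8) {r : ℕ} (hr : r < 56) :
    ∃ y ∈ span, psi g (rowV r) = (4 : ℤ) • y := by
  have ok := List.all_eq_true.1 (List.all_eq_true.1 fwd_ok g (List.mem_range.2 hg)) r (List.mem_range.2 hr)
  simp only [fwdOk, Bool.and_eq_true, List.all_eq_true, decide_eq_true_eq] at ok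
  obtain ⟨⟨e, hlt⟩, hb⟩ := ok
  set l := dec2 120 ((fwdCert.getD g []).getD r 0)
  have hl : ∀ a ∈ l, a.1 < 56 := fun a ha => lt_blt (hlt a ha)
  refine ⟨combL l, combL_mem l, packZ_inj (B := (2 : ℤ) ^ 32) ?_ fun q hq => ?_⟩
  · rw [map_zsmul, packZ_combL l hl, smul_eq_mul, ← e, psi_apply, map_sum, map_range_sum]
    exact Finset.sum_congr rfl fun q hq => by
      rw [map_zsmul, smul_eq_mul, ((basic hg).2.2.1 q (Finset.mem_range.1 hq)).2]
  · have h1 := abs_le.1 (combL_bound hq l hl)
    have h2 : |co (psi g (rowV r)) q| ≤ 56 * (16 * 32) := by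
      rw [psi_apply, co_sum]
      refine (Finset.abs_sum_le_sum_abs _ _).trans
        ((Finset.sum_le_sum (g := fun _ => (16 * 32 : ℤ)) fun k hk => ?_).trans (by simp))
      rw [co_zsmul, abs_mul, colV, co_vecK _ hq]
      refine mul_le_mul (rowV_bound16 r hr k (Finset.mem_range.1 hk)) ?_ (abs_nonneg _) (by norm_num)
      have := dg_bound (colK g k) q
      rw [abs_le]; omega
    have h2' := abs_le.1 h2
    have h3 := lt_blt hb
    rw [co_zsmul]
    rw [show ((2 : ℤ) ^ 32) = 4294967296 from by norm_num]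
    constructor <;> omega

theorem psi_mem {g : ℕ} (hg : g < 8) {x : RuVec} (hx : x ∈ span) :
    ∃ y ∈ span, psi g x = (4 : ℤ) • y := by
  induction hx using AddSubgroup.closure_induction with
  | mem x hx =>
    obtain ⟨r, rfl⟩ := hx
    rcases rowV_cases r with h | h
    · exact ⟨0, zero_mem _, by rw [h, map_zero, smul_zero]⟩
    · exact psi_row hg h
  | zero => exact ⟨0, zero_mem _, by rw [map_zero, smul_zero]⟩
  | add x y _ _ h1 h2 =>
    obtain ⟨a, ha, e1⟩ := h1
    obtain ⟨b, hb, e2⟩ := h2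
    exact ⟨a + b, add_mem ha hb, by rw [map_add, e1, e2, smul_add]⟩
  | neg x _ h =>
    obtain ⟨a, ha, e⟩ := h
    exact ⟨-a, neg_mem ha, by rw [map_neg, e, smul_neg]⟩

theorem span_le : span ≤ ruLattice := span_eq.ge

/-- a generator on the lattice -/
noncomputable def gF (g : ℕ) (hg : g < 8) (v : ruLattice) : ruLattice :=
  ⟨(psi_mem hg (ruLattice_le v.2)).choose,
    span_le (psi_mem hg (ruLattice_le v.2)).choose_spec.1⟩

theorem gF_spec {g : ℕ} (hg : g < 8) (v : ruLattice) :
    psi g (v : RuVec) = (4 : ℤ) • ((gF g hg v : ruLattice) : RuVec) :=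
  (psi_mem hg (ruLattice_le v.2)).choose_spec.2

theorem gF_add {g : ℕ} (hg : g < 8) (v w : ruLattice) : gF g hg (v + w) = gF g hg v + gF g hg w := by
  refine Subtype.ext (zsmul_right_cancel (n := 4) (by norm_num) ?_)
  rw [← gF_spec, AddSubgroup.coe_add, map_add, AddSubgroup.coe_add, smul_add, gF_spec hg, gF_spec hg]

theorem coe_ruI (v : ruLattice) : ((ruI v : ruLattice) : RuVec) = iMul (v : RuVec) := gI_smul _

theorem gF_ruI {g : ℕ} (hg : g < 8) (v : ruLattice) : gF g hg (ruI v) = ruI (gF g hg v) := by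
  refine Subtype.ext (zsmul_right_cancel (n := 4) (by norm_num) ?_)
  rw [← gF_spec, coe_ruI, coe_ruI, psi_iMul hg, gF_spec hg, ← iHom_apply, map_zsmul, iHom_apply]

theorem gF_dot {g : ℕ} (hg : g < 8) (v w : ruLattice) :
    dot (gF g hg v : ruLattice).1 (gF g hg w : ruLattice).1 = dot v.1 w.1 := by
  have h := psi_dot hg v.1 w.1
  rw [gF_spec hg, gF_spec hg, dot_zsmul, dot_zsmul_left] at h
  omega

theorem dot_self_eq_zero {x : RuVec} (h : dot x x = 0) : x = 0 := by
  refine co_ext fun q hq => ?_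
  have := h ▸ co_sq_le x hq
  rw [co_zero]
  nlinarith

theorem gF_injective {g : ℕ} (hg : g < 8) : Function.Injective (gF g hg) := by
  intro v w h
  have hd : gF g hg (v - w) + gF g hg w = gF g hg w := by rw [← gF_add, sub_add_cancel, h]
  have h0 : gF g hg (v - w) = 0 := add_eq_right.1 hd
  have := gF_dot hg (v - w) (v - w)
  rw [h0] at this
  have e : ((v - w : ruLattice) : RuVec) = 0 := dot_self_eq_zero (by rw [← this]; simp [dot])
  exact sub_eq_zero.1 (Subtype.ext e)

theorem shell_finite (n : ℤ) : Finite {v : ruLattice // dot v.1 v.1 = n} := by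
  refine Finite.of_injective (fun v q => (⟨co v.1.1 q.val, ?_⟩ : Set.Icc (-n) n))
    (β := Fin 56 → Set.Icc (-n) n) ?_
  · have h := co_sq_le v.1.1 q.isLt
    rw [v.2] at h
    rw [Set.mem_Icc]
    constructor <;> nlinarith [mul_self_nonneg (co v.1.1 q.val), mul_self_nonneg (co v.1.1 q.val + 1),
      mul_self_nonneg (co v.1.1 q.val - 1)]
  · intro v w h
    refine Subtype.ext (Subtype.ext (co_ext fun q hq => ?_))
    exact congrArg Subtype.val (congrFun h ⟨q, hq⟩)

theorem gF_surjective {g : ℕ} (hg : g < 8) : Function.Surjective (gF g hg) := by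
  intro w
  have := shell_finite (dot w.1 w.1)
  let f : {v : ruLattice // dot v.1 v.1 = dot w.1 w.1} → {v : ruLattice // dot v.1 v.1 = dot w.1 w.1} :=
    fun v => ⟨gF g hg v.1, by rw [gF_dot]; exact v.2⟩
  have hf : Function.Injective f := fun a b h =>
    Subtype.ext (gF_injective hg (congrArg Subtype.val h))
  obtain ⟨v, hv⟩ := Finite.surjective_of_injective hf ⟨w, rfl⟩
  exact ⟨v.1, congrArg Subtype.val hv⟩

/-- a generator as an automorphism -/
noncomputable def gE (g : ℕ) : fourRu :=
  if hg : g < 8 then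
    ⟨Equiv.ofBijective (gF g hg) ⟨gF_injective hg, gF_surjective hg⟩, gF_add hg, gF_ruI hg,
      fun v => by rw [ruNorm_eq, ruNorm_eq]; exact gF_dot hg v v⟩
  else 1

theorem gE_spec {g : ℕ} (hg : g < 8) (v : ruLattice) :
    psi g v.1 = (4 : ℤ) • ((gE g).1 v : ruLattice).1 := by
  rw [gE, dif_pos hg]; exact gF_spec hg v

theorem co_bound_sixteen {x : RuVec} (h : dot x x = 16) {q : ℕ} (hq : q < 56) :
    -32 ≤ co x q ∧ co x q < 32 := by
  have := h ▸ co_sq_le x hq
  constructor <;> nlinarith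

theorem split_pack {A S W : ℕ} (h : A < W) : (A + S * W) / W = S ∧ (A + S * W) % W = A := by
  rw [Nat.add_mul_div_right _ _ (by omega : 0 < W), Nat.div_eq_of_lt h, Nat.zero_add,
    Nat.add_mul_mod_self_right, Nat.mod_eq_of_lt h]
  exact ⟨rfl, rfl⟩

theorem list_sum_getD (l : List ℕ) {n : ℕ} (h : l.length = n) :
    l.sum = ∑ q ∈ Finset.range n, l.getD q 0 := by
  subst h
  induction l with
  | nil => rfl
  | cons a l ih =>
    rw [List.sum_cons, List.length_cons, Finset.sum_range_succ', ih, Nat.add_comm]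
    rfl

theorem pow_le : (2 : ℕ) ^ 336 ≤ 64 ^ 56 := by decide +kernel

theorem big_lt : 56 * (64 * 2 ^ 336) < 2 ^ 400 := by decide +kernel

/-- the executable image agrees with the automorphism -/
theorem img_key {g : ℕ} (hg : g < 8) (v : ruLattice) (h : dot v.1 v.1 = 16) :
    img g (key v.1) = key ((gE g).1 v : ruLattice).1 := by
  obtain ⟨hlen, hsum, hcol, -⟩ := basic hg
  set K := key v.1 with hK
  set y := ((gE g).1 v : ruLattice).1 with hy
  have hy16 : dot y y = 16 := by
    have h2 := psi_dot hg v.1 v.1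
    rw [gE_spec hg, dot_zsmul, dot_zsmul_left, ← hy, h] at h2
    omega
  have hco : ∀ q < 56, co v.1 q = ((K / 64 ^ q % 64 : ℕ) : ℤ) - 32 := fun q hq => by
    rw [← dg_eq, hK, ← co_vecK _ hq, vecK_key fun r hr => co_bound_sixteen h hr]
  set A := ∑ q ∈ Finset.range 56, K / 64 ^ q % 64 * colK g q with hA
  set S := ∑ q ∈ Finset.range 56, K / 64 ^ q % 64 with hS
  have hT : imgT (colKeys.getD g []) K = A + S * 2 ^ 400 := by rw [imgT_eq, hlen]; rfl
  have hAlt : A < 2 ^ 400 := by
    refine lt_of_le_of_lt (Finset.sum_le_sum (g := fun _ => 64 * 2 ^ 336) fun q hq => ?_) ?_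
    · exact Nat.mul_le_mul (Nat.mod_lt _ (by norm_num)).le (hcol q (Finset.mem_range.1 hq)).1.le
    · rw [Finset.sum_const, Finset.card_range, smul_eq_mul]
      exact big_lt
  have hlist : (colKeys.getD g []).sum = ∑ q ∈ Finset.range 56, colK g q := list_sum_getD _ hlen
  have main : (A : ℤ) + 1796 * offN = 4 * key y + (offN * S + 32 * (colSums.getD g 0 : ℕ)) := by
    have e := congrArg (packZ 64) (gE_spec hg v)
    rw [map_zsmul, smul_eq_mul, psi_apply, map_sum, ← hy] at e
    rw [Finset.sum_congr rfl (g := fun q => ((K / 64 ^ q % 64 * colK g q : ℕ) : ℤ) -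
        offN * ((K / 64 ^ q % 64 : ℕ) : ℤ) - 32 * (colK g q : ℤ) + 32 * offN) fun q hq => by
      have hq' := Finset.mem_range.1 hq
      rw [map_zsmul, smul_eq_mul, hco q hq', colV,
        packZ_vecK (lt_of_lt_of_le (hcol q hq').1 pow_le)]
      push_cast; ring] at e
    rw [Finset.sum_add_distrib, Finset.sum_sub_distrib, Finset.sum_sub_distrib, ← Finset.mul_sum,
      ← Finset.mul_sum, ← Nat.cast_sum, ← Nat.cast_sum, ← Nat.cast_sum, ← hA, ← hS, Finset.sum_const,
      Finset.card_range, ← hlist, ← hsum] at e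
    rw [key_cast fun r hr => co_bound_sixteen hy16 hr]
    simp only [smul_eq_mul, nsmul_eq_mul] at e
    push_cast at e ⊢
    linarith
  have main' : A + 1796 * offN = 4 * key y + (offN * S + 32 * colSums.getD g 0) := by exact_mod_cast main
  obtain ⟨d1, d2⟩ := split_pack (S := S) hAlt
  rw [img, hT, imgEnd, Nat.and_two_pow_sub_one_eq_mod, Nat.shiftRight_eq_div_pow, d1, d2, main',
    Nat.add_sub_cancel, Nat.mul_div_cancel_left _ (by norm_num : 0 < 4)]

end Cfsg.Agent.RuAut
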