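import Cfsg.Agent.RuAut.Complete
import Cfsg.Agent.RuAut.Gens
import Cfsg.Agent.RuAut.CheckS0
import Cfsg.Agent.RuAut.CheckS1
import Cfsg.Agent.RuAut.CheckS2
import Cfsg.Agent.RuAut.CheckS3
import Cfsg.Agent.RuAut.CheckSmall
import Cfsg.Agent.RuAut.CheckOne
import Cfsg.Agent.RuAut.CheckRigid

set_option autoImplicit false

/-! The tables read as statements about lattice vectors. -/

open Cfsg.Spor

namespace Cfsg.Agent.RuAut

open RuLat

/-- stored norm sixteen -/
def Sh16 (v : ruLattice) : Prop := dot v.1 v.1 = 16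

theorem fourRu_add (h : fourRu) (v w : ruLattice) : h.1 (v + w) = h.1 v + h.1 w := h.2.1 v w

/-- an automorphism as an additive map -/
def actHom (h : fourRu) : ruLattice →+ ruLattice := AddMonoidHom.mk' h.1 (fourRu_add h)

theorem actHom_apply (h : fourRu) (v : ruLattice) : actHom h v = h.1 v := rfl

theorem fourRu_norm (h : fourRu) (v : ruLattice) : dot (h.1 v).1 (h.1 v).1 = dot v.1 v.1 := by
  rw [← ruNorm_eq, ← ruNorm_eq]; exact h.2.2.2 v

theorem fourRu_dot (h : fourRu) (v w : ruLattice) : dot (h.1 v).1 (h.1 w).1 = dot v.1 w.1 := by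
  have e := fourRu_norm h (v + w)
  have expand : ∀ x y : RuVec, dot (x + y) (x + y) = dot x x + 2 * dot x y + dot y y := fun x y => by
    rw [dot_add_left, dot_add, dot_add, dot_comm y x]; ring
  rw [fourRu_add, AddSubgroup.coe_add, AddSubgroup.coe_add, expand, expand, fourRu_norm,
    fourRu_norm] at e
  linarith

theorem fourRu_ruI (h : fourRu) (v : ruLattice) : h.1 (ruI v) = ruI (h.1 v) := h.2.2.1 v

theorem Sh16.map {v : ruLattice} (hv : Sh16 v) (h : fourRu) : Sh16 (h.1 v) :=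
  (fourRu_norm h v).trans hv

theorem Sh16.bound {v : ruLattice} (hv : Sh16 v) {q : ℕ} (hq : q < 56) :
    -32 ≤ co v.1 q ∧ co v.1 q < 32 := co_bound_sixteen hv hq

theorem Sh16.vec {v : ruLattice} (hv : Sh16 v) : vecK (key v.1) = v.1 :=
  vecK_key fun _ hq => hv.bound hq

theorem key_inj {v w : ruLattice} (hv : Sh16 v) (hw : Sh16 w) (h : key v.1 = key w.1) : v = w :=
  Subtype.ext (by rw [← hv.vec, ← hw.vec, h])

theorem Sh16.found {v : ruLattice} (hv : Sh16 v) : 0 < sFind (key v.1) :=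
  lt_blt (complete (ruLattice_le v.2) hv)

theorem s_all {x : ℕ} (h : 0 < sFind x) :
    sOk x (sFind x - 1) = true ∧ fixOk x = true := by
  obtain ⟨j, hj, h', e⟩ := sFind_pos h
  rw [e]
  interval_cases j <;> simp only [sPart] at h' ⊢
  exacts [⟨(KTab.find_all s_ok0 h').elim fun _ e => e, (KTab.find_all s_fix0 h').elim fun _ e => e⟩,
    ⟨(KTab.find_all s_ok1 h').elim fun _ e => e, (KTab.find_all s_fix1 h').elim fun _ e => e⟩,
    ⟨(KTab.find_all s_ok2 h').elim fun _ e => e, (KTab.find_all s_fix2 h').elim fun _ e => e⟩,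
    ⟨(KTab.find_all s_ok3 h').elim fun _ e => e, (KTab.find_all s_fix3 h').elim fun _ e => e⟩,
    ⟨(KTab.find_all s_ok4 h').elim fun _ e => e, (KTab.find_all s_fix4 h').elim fun _ e => e⟩,
    ⟨(KTab.find_all s_ok5 h').elim fun _ e => e, (KTab.find_all s_fix5 h').elim fun _ e => e⟩,
    ⟨(KTab.find_all s_ok6 h').elim fun _ e => e, (KTab.find_all s_fix6 h').elim fun _ e => e⟩,
    ⟨(KTab.find_all s_ok7 h').elim fun _ e => e, (KTab.find_all s_fix7 h').elim fun _ e => e⟩]

theorem sKeys_all {x : ℕ} (h : x ∈ sKeys) : ∃ v, sOk x v = true := by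
  simp only [sKeys, List.mem_append] at h
  rcases h with ((h | h) | (h | h)) | ((h | h) | (h | h))
  exacts [(KTab.all_spec s_ok0 h).elim fun _ e => e, (KTab.all_spec s_ok1 h).elim fun _ e => e,
    (KTab.all_spec s_ok2 h).elim fun _ e => e, (KTab.all_spec s_ok3 h).elim fun _ e => e,
    (KTab.all_spec s_ok4 h).elim fun _ e => e, (KTab.all_spec s_ok5 h).elim fun _ e => e,
    (KTab.all_spec s_ok6 h).elim fun _ e => e, (KTab.all_spec s_ok7 h).elim fun _ e => e]

theorem orb_step {fnd kAt : ℕ → ℕ} {m root K v : ℕ} (h : orbOk fnd kAt m root K v = true) :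
    K = root ∨ ∃ g p, g < m ∧ 0 < fnd p ∧ depOf (fnd p - 1) < depOf v ∧ img g p = K := by
  simp only [orbOk] at h
  cases hd : Nat.beq (depOf v) 0
  · simp only [hd, cond_false, Bool.and_eq_true] at h
    exact Or.inr ⟨_, _, lt_blt h.1.1.1, lt_blt h.1.1.2, lt_blt h.1.2, Nat.eq_of_beq_eq_true h.2⟩
  · simp only [hd, cond_true] at h
    exact Or.inl (Nat.eq_of_beq_eq_true h)

/-- the generators with a small number -/
def genSet (m : ℕ) : Subgroup fourRu := Subgroup.closure {h | ∃ g < m, h = gE g}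

theorem gE_mem {g m : ℕ} (h : g < m) : gE g ∈ genSet m := Subgroup.subset_closure ⟨g, h, rfl⟩

theorem reach_step {m g : ℕ} (hm : m ≤ 8) (hg : g < m) {b : ruLattice} (hb : Sh16 b) {p : ℕ}
    (h : ∃ u ∈ genSet m, key (u.1 b).1 = p) : ∃ u ∈ genSet m, key (u.1 b).1 = img g p := by
  obtain ⟨u, hu, e⟩ := h
  refine ⟨gE g * u, mul_mem (gE_mem hg) hu, ?_⟩
  rw [← e, img_key (by omega) _ (hb.map u)]
  rfl

theorem reach {fnd kAt : ℕ → ℕ} {m root : ℕ} (hm : m ≤ 8)
    (hall : ∀ K, 0 < fnd K → orbOk fnd kAt m root K (fnd K - 1) = true)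
    {b : ruLattice} (hb : Sh16 b) (hroot : key b.1 = root) :
    ∀ K, 0 < fnd K → ∃ u ∈ genSet m, key (u.1 b).1 = K := by
  suffices ∀ d K, 0 < fnd K → depOf (fnd K - 1) = d → ∃ u ∈ genSet m, key (u.1 b).1 = K from
    fun K hK => this _ K hK rfl
  intro d
  induction d using Nat.strong_induction_on with
  | _ d ih =>
    intro K hK hd
    rcases orb_step (hall K hK) with rfl | ⟨g, p, hg, hp, hlt, rfl⟩
    · exact ⟨1, one_mem _, hroot⟩
    · exact reach_step hm hg hb (ih _ (hd ▸ hlt) p hp rfl)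

theorem reach' {fnd kAt : ℕ → ℕ} {m root : ℕ} (hm : m ≤ 8)
    (hall : ∀ K, 0 < fnd K → orbOk fnd kAt m root K (fnd K - 1) = true)
    {b : ruLattice} (hb : Sh16 b) (hroot : key b.1 = root) {K v : ℕ}
    (h : orbOk fnd kAt m root K v = true) : ∃ u ∈ genSet m, key (u.1 b).1 = K := by
  rcases orb_step h with rfl | ⟨g, p, hg, hp, -, rfl⟩
  · exact ⟨1, one_mem _, hroot⟩
  · exact reach_step hm hg hb (reach hm hall hb hroot p hp)

/-- the first base vector -/
def b0 : ruLattice :=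
  ⟨vecK (bK 0), by
    rw [root_eq.eq]
    refine neg_mem ?_
    rw [ruLattice, AddSubgroup.mem_sInf]
    intro L hL
    rw [List.getD_eq_getElem _ _ (by rw [RuLat.table_length]; norm_num)]
    exact hL.1 _ (List.getElem_mem _)⟩

theorem b0_sh : Sh16 b0 := root_norm

theorem bK0_lt : bK 0 < 64 ^ 56 := by decide +kernel

theorem key_b0 : key b0.1 = bK 0 := key_vecK bK0_lt

theorem reach_all {K : ℕ} (h : 0 < sFind K) : ∃ u ∈ genSet 8, key (u.1 b0).1 = K :=
  reach le_rfl (fun _ hk => by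
    have := (s_all hk).1
    simp only [sOk, Bool.and_eq_true] at this
    exact this.1.1.1.1) b0_sh key_b0 K h

theorem reach_key {K : ℕ} (h : K ∈ sKeys) : ∃ u ∈ genSet 8, key (u.1 b0).1 = K := by
  obtain ⟨v, hv⟩ := sKeys_all h
  simp only [sOk, Bool.and_eq_true] at hv
  exact reach' le_rfl (fun _ hk => by
    have := (s_all hk).1
    simp only [sOk, Bool.and_eq_true] at this
    exact this.1.1.1.1) b0_sh key_b0 hv.1.1.1.1

/-- a vector from its key -/
theorem exists_vec {K : ℕ} (h : 0 < sFind K) : ∃ v : ruLattice, Sh16 v ∧ key v.1 = K := by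
  obtain ⟨u, -, e⟩ := reach_all h
  exact ⟨_, b0_sh.map u, e⟩

theorem fK_found {n : ℕ} (hn : n < 28) : 0 < sFind (fK n) := by
  have := List.all_eq_true.1 fix_mem n (List.mem_range.2 hn)
  simp only [Bool.and_eq_true] at this
  exact lt_blt this.1.1

/-- the rigid vectors -/
noncomputable def fV (n : ℕ) : ruLattice :=
  if hn : n < 28 then (exists_vec (fK_found hn)).choose else b0

theorem fV_spec {n : ℕ} (hn : n < 28) : Sh16 (fV n) ∧ key (fV n).1 = fK n := by
  rw [fV, dif_pos hn]; exact (exists_vec (fK_found hn)).choose_spec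

theorem bK_eq {k : ℕ} (hk : k < 5) : fK k = bK k :=
  Nat.eq_of_beq_eq_true (List.all_eq_true.1 fix_base k (List.mem_range.2 hk))

theorem fV0 : fV 0 = b0 :=
  key_inj (fV_spec (by norm_num)).1 b0_sh (by rw [(fV_spec (by norm_num)).2, key_b0, bK_eq (by norm_num)])

theorem rotK_key {x : RuVec} (h : ∀ q < 56, -31 ≤ co x q ∧ co x q < 32) :
    rotK 28 (key x) = key (iMul x) := by
  have d : ∀ q < 56, ((key x / 64 ^ q % 64 : ℕ) : ℤ) = co x q + 32 := fun q hq => by
    have := vecK_key (x := x) fun r hr => ⟨(le_trans (by norm_num) (h r hr).1), (h r hr).2⟩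
    have e : co x q = dg (key x) q := by rw [← co_vecK _ hq, this]
    rw [e, dg_eq]; ring
  rw [rotK_eq, key, key, sum_two_mul (fun q => (co (iMul x) q + 32).toNat * 64 ^ q) 28]
  refine Finset.sum_congr rfl fun k hk => ?_
  have hk' := Finset.mem_range.1 hk
  have e1 := d (2 * k + 1) (by omega)
  have e2 := d (2 * k) (by omega)
  have b1 := h (2 * k + 1) (by omega)
  have b2 := h (2 * k) (by omega)
  unfold key at e1 e2
  rw [co_iMul_re x k hk', co_iMul_im x k hk']
  generalize (∑ q ∈ Finset.range 56, (co x q + 32).toNat * 64 ^ q) / 64 ^ (2 * k + 1) % 64 = u at e1 ⊢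
  generalize (∑ q ∈ Finset.range 56, (co x q + 32).toNat * 64 ^ q) / 64 ^ (2 * k) % 64 = w at e2 ⊢
  rw [show 64 - u = (-co x (2 * k + 1) + 32).toNat by omega, show w = (co x (2 * k) + 32).toNat by omega,
    pow_succ]
  ring

theorem Sh16.ruI {v : ruLattice} (hv : Sh16 v) : Sh16 (ruI v) := by
  show dot _ _ = 16
  rw [coe_ruI, dot_iMul]; exact hv

theorem rot_key {v : ruLattice} (hv : Sh16 v) : rotK 28 (key v.1) = key (ruI v).1 := by
  rw [coe_ruI]
  refine rotK_key fun q hq => ?_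
  have := hv ▸ co_sq_le v.1 hq
  constructor <;> nlinarith

/-- iterated multiplication by i -/
def iPow : ℕ → ruLattice → ruLattice
  | 0, v => v
  | k + 1, v => ruI (iPow k v)

theorem Sh16.iPow {v : ruLattice} (hv : Sh16 v) : ∀ k, Sh16 (iPow k v)
  | 0 => hv
  | k + 1 => (hv.iPow k).ruI

theorem rotPow_key {v : ruLattice} (hv : Sh16 v) : ∀ k, rotPow k (key v.1) = key (iPow k v).1
  | 0 => rfl
  | k + 1 => by rw [rotPow, rotPow_key hv k, rot_key (hv.iPow k)]; rfl

theorem fourRu_iPow (h : fourRu) (v : ruLattice) : ∀ k, h.1 (iPow k v) = iPow k (h.1 v)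
  | 0 => rfl
  | k + 1 => by rw [iPow, fourRu_ruI, fourRu_iPow h v k]; rfl

theorem dotS_fix {j : ℕ} (hj : j < 28) {v : ruLattice} (hv : Sh16 v) :
    dotJ (fixP.getD j []) (fixN.getD j []) (key v.1) = dot (fV j).1 v.1 ∧
      dotJ (fixPI.getD j []) (fixNI.getD j []) (key v.1) = dot (ruI (fV j)).1 v.1 := by
  have hl := List.all_eq_true.1 sparse_lt j (List.mem_range.2 hj)
  simp only [List.all_eq_true, List.mem_append] at hl
  have hok := List.all_eq_true.1 sparse_ok j (List.mem_range.2 hj)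
  simp only [List.all_eq_true, Bool.and_eq_true, decide_eq_true_eq, List.mem_range] at hok
  obtain ⟨hs, hkey⟩ := fV_spec hj
  constructor
  · rw [dotJ_eq (fun e he => lt_blt (hl e (.inl (.inl (.inl he))))) (fun e he => lt_blt (hl e (.inl (.inl (.inr he))))),
      dot_eq_co]
    refine Finset.sum_congr rfl fun q hq => ?_
    rw [(hok q (Finset.mem_range.1 hq)).1, ← hkey, ← co_vecK _ (Finset.mem_range.1 hq), hs.vec, hv.vec]
  · rw [dotJ_eq (fun e he => lt_blt (hl e (.inl (.inr he)))) (fun e he => lt_blt (hl e (.inr he))),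
      dot_eq_co]
    refine Finset.sum_congr rfl fun q hq => ?_
    rw [(hok q (Finset.mem_range.1 hq)).2, ← hkey, rot_key hs, ← co_vecK _ (Finset.mem_range.1 hq),
      hs.ruI.vec, hv.vec]

/-- same products as the rigid vector `n` with the first `m` -/
def Sig (n m : ℕ) (v : ruLattice) : Prop :=
  ∀ j < m, dot (fV j).1 v.1 = dot (fV j).1 (fV n).1 ∧
    dot (ruI (fV j)).1 v.1 = dot (ruI (fV j)).1 (fV n).1

theorem sigEq_iff {n : ℕ} (hn : n < 28) {v : ruLattice} (hv : Sh16 v) : ∀ {m : ℕ}, m ≤ 28 →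
    (sigEq n m (key v.1) = true ↔ Sig n m v)
  | 0, _ => by simp [sigEq, Sig]
  | m + 1, hm => by
    have hm' : m < 28 := by omega
    obtain ⟨hs, hk⟩ := fV_spec hn
    rw [sigEq, Bool.and_eq_true, sigEq_iff hn hv (by omega : m ≤ 28), sigOne, Bool.and_eq_true,
      sameDot_iff, sameDot_iff, ← hk, (dotS_fix hm' hv).1, (dotS_fix hm' hv).2,
      (dotS_fix hm' hs).1, (dotS_fix hm' hs).2]
    constructor
    · rintro ⟨h, h'⟩ j hj
      rcases Nat.lt_succ_iff_lt_or_eq.1 hj with hj | rfl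
      · exact h j hj
      · exact h'
    · exact fun h => ⟨fun j hj => h j (by omega), h m (by omega)⟩

theorem Sig.map {n m : ℕ} {v : ruLattice} (hv : Sig n m v) {h : fourRu}
    (hfix : ∀ j < m, h.1 (fV j) = fV j) : Sig n m (h.1 v) := by
  intro j hj
  obtain ⟨a, b⟩ := hv j hj
  rw [← a, ← b]
  constructor
  · conv_lhs => rw [← hfix j hj]
    exact fourRu_dot h _ _
  · conv_lhs => rw [← hfix j hj, ← fourRu_ruI]
    exact fourRu_dot h _ _

/-- orthogonal to the first base vector -/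
def Orth (v : ruLattice) : Prop := dot b0.1 v.1 = 0 ∧ dot (ruI b0).1 v.1 = 0

theorem orthB_iff {v : ruLattice} (hv : Sh16 v) : orthB (key v.1) = true ↔ Orth v := by
  rw [orthB, Bool.and_eq_true, zeroDot_iff, zeroDot_iff, (dotS_fix (by norm_num) hv).1,
    (dotS_fix (by norm_num) hv).2, fV0]
  rfl

theorem lineB_iff {v : ruLattice} (hv : Sh16 v) :
    lineB (key v.1) = true ↔ ∃ k < 4, v = iPow k b0 := by
  have e : ∀ k, Nat.beq (key v.1) (rotPow k (bK 0)) = true ↔ v = iPow k b0 := fun k => by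
    rw [← key_b0, rotPow_key b0_sh]
    exact ⟨fun h => key_inj hv (b0_sh.iPow k) (Nat.eq_of_beq_eq_true h), fun h => by rw [h]; exact Nat.beq_refl _⟩
  simp only [lineB, Bool.or_eq_true, e]
  rw [show bK 0 = rotPow 0 (bK 0) from rfl, e]
  constructor
  · rintro (((h | h) | h) | h)
    exacts [⟨0, by norm_num, h⟩, ⟨1, by norm_num, h⟩, ⟨2, by norm_num, h⟩, ⟨3, by norm_num, h⟩]
  · rintro ⟨k, hk, h⟩
    interval_cases k <;> simp [h]

end Cfsg.Agent.RuAut
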