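import Cfsg.Agent.RuAut.Pack
import Cfsg.Agent.RuAut.Data
import Cfsg.Agent.RuAut.AuxData

set_option autoImplicit false

/-! Executable forms of the generators on keys. -/

open Cfsg.Spor

namespace Cfsg.Agent.RuAut

open RuLat

/-- a column key -/
def colK (g q : ℕ) : ℕ := (colKeys.getD g []).getD q 0

/-- a column -/
def colV (g q : ℕ) : RuVec := vecK (colK g q)

/-- weighted digit sum, the plain digit sum shifted above it -/
noncomputable def imgT (l : List ℕ) : ℕ → ℕ :=
  List.rec (fun _ => 0) (fun c _ ih K => Nat.add (Nat.add (Nat.mul (Nat.land K 63) c)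
    (Nat.shiftLeft (Nat.land K 63) 400)) (ih (Nat.shiftRight K 6))) l

theorem imgT_nil (K : ℕ) : imgT [] K = 0 := rfl

theorem imgT_cons (c : ℕ) (l : List ℕ) (K : ℕ) :
    imgT (c :: l) K = (K &&& 63) * c + (K &&& 63) <<< 400 + imgT l (K >>> 6) := rfl

/-- finish the image computation -/
def imgEnd (T cs : ℕ) : ℕ :=
  ((T &&& (2 ^ 400 - 1)) + 1796 * offN - (offN * (T >>> 400) + 32 * cs)) / 4

/-- the image of a key -/
noncomputable def img (g K : ℕ) : ℕ := imgEnd (imgT (colKeys.getD g []) K) (colSums.getD g 0)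

/-- the image of a key under a word, rightmost first -/
noncomputable def imgW : List ℕ → ℕ → ℕ
  | [], K => K
  | g :: w, K => img g (imgW w K)

/-- multiplication by i on keys -/
noncomputable def rotK (n : ℕ) : ℕ → ℕ :=
  Nat.rec (fun _ => 0) (fun _ ih K => Nat.add (Nat.add (Nat.sub 64 (Nat.land (Nat.shiftRight K 6) 63))
    (Nat.mul 64 (Nat.land K 63))) (Nat.mul 4096 (ih (Nat.shiftRight K 12)))) n

theorem rotK_zero (K : ℕ) : rotK 0 K = 0 := rfl

theorem rotK_succ (n K : ℕ) : rotK (n + 1) K =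
    (64 - ((K >>> 6) &&& 63)) + 64 * (K &&& 63) + 4096 * rotK n (K >>> 12) := rfl

/-- sum of the digits at listed positions -/
noncomputable def dP (l : List ℕ) : ℕ → ℕ :=
  List.rec (fun _ => 0) (fun e _ ih K => Nat.add (Nat.land (Nat.shiftRight K (Nat.mul 6 e)) 63) (ih K)) l

theorem dP_nil (K : ℕ) : dP [] K = 0 := rfl

theorem dP_cons (e : ℕ) (l : List ℕ) (K : ℕ) :
    dP (e :: l) K = ((K >>> (6 * e)) &&& 63) + dP l K := rfl

/-- multiplicity of a position -/
def cntL : List ℕ → ℕ → ℤ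
  | [], _ => 0
  | e :: l, q => (bif Nat.beq e q then 1 else 0) + cntL l q

/-- dot product with a signed list of positions -/
noncomputable def dotJ (P N : List ℕ) (K : ℕ) : ℤ :=
  ((dP P K : ℤ) - 32 * P.length) - ((dP N K : ℤ) - 32 * N.length)

/-- compare a dot product of two keys -/
noncomputable def dotL (n : ℕ) : ℕ → ℕ → ℕ → ℕ → ℕ → Bool :=
  Nat.rec (fun _ _ A S tgt => Nat.beq (Nat.add A 57344) (Nat.add tgt (Nat.mul 32 S)))
    (fun _ ih K L A S tgt => ih (Nat.shiftRight K 6) (Nat.shiftRight L 6)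
      (Nat.add A (Nat.mul (Nat.land K 63) (Nat.land L 63)))
      (Nat.add (Nat.add S (Nat.land K 63)) (Nat.land L 63)) tgt) n

theorem shift_six (K q : ℕ) : K >>> 6 / 64 ^ q % 64 = K / 64 ^ (q + 1) % 64 := by
  rw [Nat.shiftRight_eq_div_pow, Nat.div_div_eq_div_mul, show (2 : ℕ) ^ 6 = 64 from rfl, pow_succ']

theorem and63 (K : ℕ) : K &&& 63 = K % 64 := Nat.and_two_pow_sub_one_eq_mod K 6

theorem dotL_spec : ∀ n K L A S tgt, dotL n K L A S tgt = true →
    A + (∑ q ∈ Finset.range n, K / 64 ^ q % 64 * (L / 64 ^ q % 64)) + 57344 =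
      tgt + 32 * (S + ∑ q ∈ Finset.range n, (K / 64 ^ q % 64 + L / 64 ^ q % 64))
  | 0, K, L, A, S, tgt, h => by
    have h' : Nat.beq (A + 57344) (tgt + 32 * S) = true := h
    simpa using Nat.eq_of_beq_eq_true h'
  | n + 1, K, L, A, S, tgt, h => by
    have := dotL_spec n (K >>> 6) (L >>> 6) (A + (K &&& 63) * (L &&& 63)) (S + (K &&& 63) + (L &&& 63)) tgt h
    simp only [shift_six, and63] at this
    rw [Finset.sum_range_succ', Finset.sum_range_succ']
    simp only [pow_zero, Nat.div_one]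
    omega

theorem dot_of_dotL {K L tgt : ℕ} (h : dotL 56 K L 0 0 tgt = true) :
    dot (vecK K) (vecK L) = (tgt : ℤ) := by
  have e := dotL_spec 56 K L 0 0 tgt h
  rw [Nat.zero_add, Nat.zero_add] at e
  have e' : ((∑ q ∈ Finset.range 56, K / 64 ^ q % 64 * (L / 64 ^ q % 64) : ℕ) : ℤ) + 57344 =
      tgt + 32 * ((∑ q ∈ Finset.range 56, (K / 64 ^ q % 64 + L / 64 ^ q % 64) : ℕ) : ℤ) := by
    exact_mod_cast e
  push_cast at e'
  rw [dot_eq_co, Finset.sum_congr rfl (g := fun q => ((K / 64 ^ q % 64 : ℕ) : ℤ) * (L / 64 ^ q % 64 : ℕ)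
    - 32 * (((K / 64 ^ q % 64 : ℕ) : ℤ) + (L / 64 ^ q % 64 : ℕ)) + 1024) fun q hq => by
    rw [co_vecK K (Finset.mem_range.1 hq), co_vecK L (Finset.mem_range.1 hq), dg_eq, dg_eq]; ring]
  rw [Finset.sum_add_distrib, Finset.sum_sub_distrib, Finset.sum_const, Finset.card_range,
    ← Finset.mul_sum]
  push_cast
  simp only [Finset.sum_add_distrib] at e' ⊢
  norm_num at e' ⊢
  linarith

theorem dP_eq (K : ℕ) : ∀ l : List ℕ, (∀ e ∈ l, e < 56) →
    (dP l K : ℤ) - 32 * l.length = ∑ q ∈ Finset.range 56, cntL l q * co (vecK K) q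
  | [], _ => by simp [dP_nil, cntL]
  | e :: l, h => by
    have ih := dP_eq K l fun a ha => h a (List.mem_cons_of_mem _ ha)
    simp only [cntL, add_mul]
    rw [Finset.sum_add_distrib, ← ih]
    have he : ∑ q ∈ Finset.range 56, (bif Nat.beq e q then 1 else 0) * co (vecK K) q = dg K e := by
      rw [Finset.sum_eq_single e]
      · rw [co_vecK K (h e (List.mem_cons_self ..))]; simp
      · intro q _ hq
        have : Nat.beq e q = false := by
          cases hb : Nat.beq e q
          · rfl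
          · exact absurd (Nat.eq_of_beq_eq_true hb).symm hq
        simp [this]
      · intro hn; exact absurd (Finset.mem_range.2 (h e (List.mem_cons_self ..))) hn
    rw [he, dP_cons, List.length_cons, dg]
    push_cast
    ring

theorem dotJ_eq {P N : List ℕ} (hP : ∀ e ∈ P, e < 56) (hN : ∀ e ∈ N, e < 56) (K : ℕ) :
    dotJ P N K = ∑ q ∈ Finset.range 56, (cntL P q - cntL N q) * co (vecK K) q := by
  simp only [dotJ, dP_eq K P hP, dP_eq K N hN, sub_mul, Finset.sum_sub_distrib]

theorem imgT_eq : ∀ (l : List ℕ) (K : ℕ), imgT l K =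
    (∑ q ∈ Finset.range l.length, K / 64 ^ q % 64 * l.getD q 0) +
      (∑ q ∈ Finset.range l.length, K / 64 ^ q % 64) * 2 ^ 400
  | [], K => by simp [imgT_nil]
  | c :: l, K => by
    rw [imgT_cons, imgT_eq l, List.length_cons, Finset.sum_range_succ', Finset.sum_range_succ',
      Nat.shiftLeft_eq, and63]
    simp only [shift_six, List.getD_cons_succ, List.getD_cons_zero, pow_zero, Nat.div_one]
    generalize (2 : ℕ) ^ 400 = W
    ring

theorem rotK_eq : ∀ n K, rotK n K = ∑ k ∈ Finset.range n,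
    ((64 - K / 64 ^ (2 * k + 1) % 64) + 64 * (K / 64 ^ (2 * k) % 64)) * 64 ^ (2 * k)
  | 0, K => by simp [rotK_zero]
  | n + 1, K => by
    rw [rotK_succ, rotK_eq n, Finset.sum_range_succ', and63, and63, Finset.mul_sum,
      Nat.shiftRight_eq_div_pow, Nat.shiftRight_eq_div_pow]
    simp only [Nat.div_div_eq_div_mul, pow_zero, Nat.div_one, Nat.mul_zero, Nat.zero_add, pow_one,
      Nat.mul_one]
    rw [show (2 : ℕ) ^ 6 = 64 from rfl, Nat.add_comm]
    congr 1
    refine Finset.sum_congr rfl fun k _ => ?_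
    rw [show (2 : ℕ) ^ 12 = 64 ^ 2 from rfl, ← pow_add, ← pow_add,
      show 2 + (2 * k + 1) = 2 * (k + 1) + 1 by ring, show 2 + 2 * k = 2 * (k + 1) by ring,
      show 2 * (k + 1) = 2 * k + 2 by ring, pow_add, pow_add]
    ring

end Cfsg.Agent.RuAut
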