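import Cfsg.Agent.RuAut.AuxData2

set_option autoImplicit false

/-! Linear packing and dot products. -/

open Cfsg.Spor

namespace Cfsg.Agent.RuAut

open RuLat

/-- coordinates as an additive map -/
def coHom (q : ℕ) : RuVec →+ ℤ where
  toFun x := co x q
  map_zero' := co_zero q
  map_add' x y := co_add x y q

theorem co_sub (x y : RuVec) (q : ℕ) : co (x - y) q = co x q - co y q := map_sub (coHom q) x y

theorem co_zsmul (n : ℤ) (x : RuVec) (q : ℕ) : co (n • x) q = n * co x q := by
  rw [← smul_eq_mul]; exact map_zsmul (coHom q) n x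

theorem co_sum {ι : Type*} (s : Finset ι) (f : ι → RuVec) (q : ℕ) :
    co (∑ i ∈ s, f i) q = ∑ i ∈ s, co (f i) q := map_sum (coHom q) f s

/-- packing in base `B` -/
def packZ (B : ℤ) : RuVec →+ ℤ where
  toFun x := ∑ r ∈ Finset.range 56, co x r * B ^ r
  map_zero' := Finset.sum_eq_zero fun r _ => by rw [co_zero, zero_mul]
  map_add' x y := by
    rw [← Finset.sum_add_distrib]
    exact Finset.sum_congr rfl fun r _ => by rw [co_add, add_mul]

theorem packZ_apply (B : ℤ) (x : RuVec) :
    packZ B x = ∑ r ∈ Finset.range 56, co x r * B ^ r := rfl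

theorem pack_zero {B : ℤ} : ∀ (n : ℕ) (d : ℕ → ℤ), (∀ r < n, -B < d r ∧ d r < B) →
    ∑ r ∈ Finset.range n, d r * B ^ r = 0 → ∀ r < n, d r = 0
  | 0, _, _, _, r, hr => absurd hr (Nat.not_lt_zero r)
  | n + 1, d, hd, h, r, hr => by
    rw [Finset.sum_range_succ'] at h
    have e : ∑ k ∈ Finset.range n, d (k + 1) * B ^ (k + 1) =
        B * ∑ k ∈ Finset.range n, d (k + 1) * B ^ k := by
      rw [Finset.mul_sum]; exact Finset.sum_congr rfl fun k _ => by ring
    rw [e, pow_zero, mul_one] at h
    set S := ∑ k ∈ Finset.range n, d (k + 1) * B ^ k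
    obtain ⟨h1, h2⟩ := hd 0 (by omega)
    have hS : S = 0 := by
      rcases lt_trichotomy S 0 with hs | hs | hs
      · nlinarith
      · exact hs
      · nlinarith
    cases r with
    | zero => simpa [hS] using h
    | succ r => exact pack_zero n (fun k => d (k + 1)) (fun k hk => hd _ (by omega)) hS r (by omega)

theorem packZ_inj {B : ℤ} {x y : RuVec} (h : packZ B x = packZ B y)
    (hb : ∀ r < 56, -B < co x r - co y r ∧ co x r - co y r < B) : x = y := by
  refine co_ext fun r hr => ?_
  have h0 : packZ B (x - y) = 0 := by rw [map_sub, h, sub_self]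
  rw [packZ_apply] at h0
  have := pack_zero 56 _ (fun q hq => by rw [co_sub]; exact hb q hq) h0 r hr
  rw [co_sub] at this
  omega

theorem key_cast {x : RuVec} (h : ∀ q < 56, -32 ≤ co x q ∧ co x q < 32) :
    (key x : ℤ) = packZ 64 x + offN := by
  rw [key, offN_eq, packZ_apply, Nat.cast_sum, Nat.cast_sum, ← Finset.sum_add_distrib]
  refine Finset.sum_congr rfl fun q hq => ?_
  have := h q (Finset.mem_range.1 hq)
  push_cast
  rw [Int.toNat_of_nonneg (by omega)]
  ring

theorem packZ_vecK {K : ℕ} (hK : K < 64 ^ 56) : packZ 64 (vecK K) = (K : ℤ) - offN := by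
  have h : ∀ q < 56, -32 ≤ co (vecK K) q ∧ co (vecK K) q < 32 := fun q hq => by
    rw [co_vecK K hq]; exact dg_bound K q
  have := key_cast h
  rw [key_vecK hK] at this
  omega

theorem dot_add_left (x y z : RuVec) : dot (x + y) z = dot x z + dot y z := by
  rw [dot_comm, dot_add, dot_comm z, dot_comm z]

theorem dot_zsmul (n : ℤ) (x y : RuVec) : dot x (n • y) = n * dot x y := by
  rw [dot_eq_co, dot_eq_co, Finset.mul_sum]
  exact Finset.sum_congr rfl fun q _ => by rw [co_zsmul]; ring

theorem dot_zsmul_left (n : ℤ) (x y : RuVec) : dot (n • x) y = n * dot x y := by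
  rw [dot_comm, dot_zsmul, dot_comm]

theorem co_iMul_re (x : RuVec) (k : ℕ) (hk : k < 28) :
    co (iMul x) (2 * k) = -co x (2 * k + 1) := by
  rw [← code_idx k hk, co_re, co_im]; rfl

theorem co_iMul_im (x : RuVec) (k : ℕ) (hk : k < 28) :
    co (iMul x) (2 * k + 1) = co x (2 * k) := by
  rw [← code_idx k hk, co_im, co_re]; rfl

theorem iMul_add (x y : RuVec) : iMul (x + y) = iMul x + iMul y := by
  funext p; refine Zsqrtd.ext ?_ ?_ <;> simp [iMul, add_comm]

/-- multiplication by i as an additive map -/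
def iHom : RuVec →+ RuVec := AddMonoidHom.mk' iMul iMul_add

theorem iHom_apply (x : RuVec) : iHom x = iMul x := rfl

theorem dot_iMul (x y : RuVec) : dot (iMul x) (iMul y) = dot x y := by
  refine Finset.sum_congr rfl fun p _ => ?_
  simp only [iMul]; ring

theorem iMul_four (x : RuVec) : iMul (iMul (iMul (iMul x))) = x := by
  funext p; refine Zsqrtd.ext ?_ ?_ <;> simp [iMul]

/-- a frame vector -/
def eVec (q : ℕ) : RuVec := fun p =>
  ⟨if 2 * code p = q then 4 else 0, if 2 * code p + 1 = q then 4 else 0⟩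

theorem co_eVec {q r : ℕ} (hr : r < 56) : co (eVec q) r = if r = q then 4 else 0 := by
  rcases Nat.mod_two_eq_zero_or_one r with h | h
  · obtain ⟨k, rfl⟩ : ∃ k, r = 2 * k := ⟨r / 2, by omega⟩
    rw [← code_idx k (by omega), co_re]; simp [eVec, code_idx k (show k < 28 by omega)]
  · obtain ⟨k, rfl⟩ : ∃ k, r = 2 * k + 1 := ⟨r / 2, by omega⟩
    rw [← code_idx k (by omega), co_im]; simp [eVec, code_idx k (show k < 28 by omega)]

theorem four_smul_eq (x : RuVec) : (4 : ℤ) • x = ∑ q ∈ Finset.range 56, co x q • eVec q := by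
  refine co_ext fun r hr => ?_
  rw [co_zsmul, co_sum, Finset.sum_eq_single r]
  · rw [co_zsmul, co_eVec hr, if_pos rfl]; ring
  · intro q _ hq; rw [co_zsmul, co_eVec hr, if_neg (Ne.symm hq), mul_zero]
  · intro h; exact absurd (Finset.mem_range.2 hr) h

theorem zsmul_right_cancel {n : ℤ} (hn : n ≠ 0) {x y : RuVec} (h : n • x = n • y) : x = y :=
  co_ext fun q _ => by
    have := congrArg (fun v => co v q) h
    simp only [co_zsmul] at this
    exact mul_left_cancel₀ hn this

end Cfsg.Agent.RuAut
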