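import Cfsg.Agent.RuAut.Img
import Cfsg.Agent.RuAut.STab
import Cfsg.Agent.RuAut.SmallTab

set_option autoImplicit false

/-! Executable tests on the tables. -/

namespace Cfsg.Agent.RuAut

noncomputable section

/-- number of leading generators fixing the first `k` base vectors -/
def lvGens : List ℕ := [8, 6, 5, 4, 1, 0]

/-- a base key -/
def bK (k : ℕ) : ℕ := baseKeys.getD k 0

/-- a key from the rigid list -/
def fK (n : ℕ) : ℕ := fixKeys.getD n 0

/-- depth stored in an entry -/
def depOf (v : ℕ) : ℕ := (v >>> 3) &&& 31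

/-- an edge of an orbit tree -/
def orbOk (fnd kAt : ℕ → ℕ) (m root : ℕ) (K v : ℕ) : Bool :=
  bif Nat.beq (depOf v) 0 then Nat.beq K root
  else Nat.blt (v &&& 7) m && Nat.blt 0 (fnd (kAt (v >>> 8))) &&
    Nat.blt (depOf (fnd (kAt (v >>> 8)) - 1)) (depOf v) &&
    Nat.beq (img (v &&& 7) (kAt (v >>> 8))) K

/-- rotations -/
def rotPow : ℕ → ℕ → ℕ
  | 0, K => K
  | k + 1, K => rotK 28 (rotPow k K)

/-- equal products with a signed position list -/
def sameDot (P N : List ℕ) (K R : ℕ) : Bool :=
  Nat.beq (Nat.add (dP P K) (dP N R)) (Nat.add (dP P R) (dP N K))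

/-- vanishing product with a signed position list -/
def zeroDot (P N : List ℕ) (K : ℕ) : Bool :=
  Nat.beq (Nat.add (dP P K) (Nat.mul 32 N.length)) (Nat.add (dP N K) (Nat.mul 32 P.length))

/-- same products with one rigid vector -/
def sigOne (n j K : ℕ) : Bool :=
  sameDot (fixP.getD j []) (fixN.getD j []) K (fK n) &&
    sameDot (fixPI.getD j []) (fixNI.getD j []) K (fK n)

theorem sameDot_iff (P N : List ℕ) (K R : ℕ) :
    sameDot P N K R = true ↔ dotJ P N K = dotJ P N R := by
  constructor
  · intro h
    have e : dP P K + dP N R = dP P R + dP N K := Nat.eq_of_beq_eq_true h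
    simp only [dotJ]; omega
  · intro h
    simp only [dotJ] at h
    have e : dP P K + dP N R = dP P R + dP N K := by omega
    show Nat.beq (dP P K + dP N R) (dP P R + dP N K) = true
    rw [e]; exact Nat.beq_refl _

theorem zeroDot_iff (P N : List ℕ) (K : ℕ) : zeroDot P N K = true ↔ dotJ P N K = 0 := by
  constructor
  · intro h
    have e : dP P K + 32 * N.length = dP N K + 32 * P.length := Nat.eq_of_beq_eq_true h
    simp only [dotJ]; omega
  · intro h
    simp only [dotJ] at h
    have e : dP P K + 32 * N.length = dP N K + 32 * P.length := by omega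
    show Nat.beq (dP P K + 32 * N.length) (dP N K + 32 * P.length) = true
    rw [e]; exact Nat.beq_refl _

/-- same products with the first `m` rigid vectors -/
def sigEq : ℕ → ℕ → ℕ → Bool
  | _, 0, _ => true
  | n, m + 1, K => sigEq n m K && sigOne n m K

/-- orthogonal to the first base vector -/
def orthB (K : ℕ) : Bool :=
  zeroDot (fixP.getD 0 []) (fixN.getD 0 []) K && zeroDot (fixPI.getD 0 []) (fixNI.getD 0 []) K

/-- a scalar multiple of the first base vector -/
def lineB (K : ℕ) : Bool :=
  Nat.beq K (bK 0) || Nat.beq K (rotPow 1 (bK 0)) || Nat.beq K (rotPow 2 (bK 0)) ||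
    Nat.beq K (rotPow 3 (bK 0))

/-- first class test -/
def oneB (K : ℕ) : Bool := sigEq 1 1 K

/-- test on every short vector -/
noncomputable def sOk (K v : ℕ) : Bool :=
  orbOk sFind sKeyAt 8 (bK 0) K v && Nat.blt K (2 ^ 336) &&
    (!orthB K || orthTab.memKey K) && (!oneB K || c1Tab.memKey K) &&
    (lineB K || orthB K || oneB K || oneB (rotPow 1 K) || oneB (rotPow 2 K) || oneB (rotPow 3 K))

/-- some stabilising generator moves the key -/
def movedB (K : ℕ) : Bool := (List.range 6).any fun g => !Nat.beq (img g K) K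

/-- test for fixed points -/
def fixOk (K : ℕ) : Bool := lineB K || movedB K

/-- test on the orthogonal vectors -/
noncomputable def orthOk (K v : ℕ) : Bool :=
  orthB K && orTab.memKey (orTab.keyAt (v >>> 2)) &&
    Nat.beq (rotPow (v &&& 3) (orTab.keyAt (v >>> 2))) K && (!sigEq 3 3 K || c3Tab.memKey K)

/-- test on the first class -/
noncomputable def oneOk (K v : ℕ) : Bool :=
  orbOk c1Tab.find c1Tab.keyAt 6 (bK 1) K v && oneB K &&
    (!sigEq 2 2 K || c2Tab.memKey K) && (!sigEq 4 4 K || c4Tab.memKey K) &&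
    (List.range 23).all fun j => !sigEq (j + 5) (fixPrefix.getD j 0) K || Nat.beq K (fK (j + 5))

end

end Cfsg.Agent.RuAut
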