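import Cfsg.Agent.RuAut.Center

set_option autoImplicit false

/-! Simplicity of the quotient by the centre. -/

open Cfsg.Spor

namespace Cfsg.Agent.RuAut

open RuLat

/-- the orbit of the first base vector under a normal subgroup -/
def blockSet (M : Subgroup fourRu) : Set ruLattice := {v | ∃ n ∈ M, n.1 b0 = v}

theorem block_fix {M : Subgroup fourRu} [hM : M.Normal] {e : fourRu} (he : e.1 b0 = b0) {v : ruLattice}
    (hv : v ∈ blockSet M) : e.1 v ∈ blockSet M := by
  obtain ⟨n, hn, rfl⟩ := hv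
  refine ⟨e * n * e⁻¹, hM.conj_mem n hn e, ?_⟩
  show e.1 (n.1 (e.1.symm b0)) = _
  rw [show e.1.symm b0 = b0 from e.1.symm_apply_eq.2 he.symm]

theorem block_iPow {M : Subgroup fourRu} (hZ : Subgroup.center fourRu ≤ M) (k : ℕ) {v : ruLattice}
    (hv : v ∈ blockSet M) : iPow k v ∈ blockSet M := by
  obtain ⟨n, hn, rfl⟩ := hv
  refine ⟨zI ^ k * n, mul_mem (hZ (pow_mem_center k)) hn, ?_⟩
  exact zI_pow _ k

theorem block_unrot {M : Subgroup fourRu} (hZ : Subgroup.center fourRu ≤ M) (k : ℕ) {v : ruLattice}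
    (hv : iPow k v ∈ blockSet M) : v ∈ blockSet M := by
  obtain ⟨n, hn, e⟩ := hv
  refine ⟨(zI ^ k)⁻¹ * n, mul_mem (inv_mem (hZ (pow_mem_center k))) hn, ?_⟩
  show (zI ^ k).1.symm (n.1 b0) = v
  rw [e, ← zI_pow, Equiv.symm_apply_apply]

theorem orth_spec {K : ℕ} (hK : K ∈ orthTab.keys) :
    ∃ u ∈ genSet 6, ∃ k, key (iPow k (u.1 (fV 3))).1 = K ∧ orthB K = true := by
  obtain ⟨_, v, h⟩ := KTab.all_spec orth_ok hK
  simp only [orthOk, Bool.and_eq_true] at h
  obtain ⟨u, hu, e⟩ := tab_reach (by norm_num) or_ok (fun _ _ _ e => e)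
    (bV_sh (show 3 < 5 by norm_num)) (bV_key (by norm_num)) (KTab.mem_keys_of_memKey h.1.1.2)
  refine ⟨u, hu, v &&& 3, ?_, h.1.1.1⟩
  rw [← rotPow_key ((bV_sh (show 3 < 5 by norm_num)).map u), e]
  exact Nat.eq_of_beq_eq_true h.1.2

theorem classify {v : ruLattice} (hv : Sh16 v) :
    (∃ k < 4, v = iPow k b0) ∨ Orth v ∨ ∃ k, Sig 1 1 (iPow k v) := by
  have h := (s_all hv.found).1
  simp only [sOk, Bool.and_eq_true, Bool.or_eq_true] at h
  have one : ∀ k, oneB (rotPow k (key v.1)) = true → Sig 1 1 (iPow k v) := fun k e => by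
    rw [rotPow_key hv k, oneB] at e
    exact (sigEq_iff (by norm_num) (hv.iPow k) (by norm_num)).1 e
  rcases h.2 with ((((e | e) | e) | e) | e) | e
  · exact Or.inl ((lineB_iff hv).1 e)
  · exact Or.inr (Or.inl ((orthB_iff hv).1 e))
  · exact Or.inr (Or.inr ⟨0, one 0 e⟩)
  · exact Or.inr (Or.inr ⟨1, one 1 e⟩)
  · exact Or.inr (Or.inr ⟨2, one 2 e⟩)
  · exact Or.inr (Or.inr ⟨3, one 3 e⟩)

theorem block_all_orth {M : Subgroup fourRu} [M.Normal] (hZ : Subgroup.center fourRu ≤ M)
    {v : ruLattice} (hs : Sh16 v) (ho : Orth v) (hv : v ∈ blockSet M) {w : ruLattice} (hw : Sh16 w)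
    (hw' : Orth w) : w ∈ blockSet M := by
  obtain ⟨u, hu, k, hk, -⟩ := orth_spec (KTab.mem_keys_of_memKey (blt_true (orth_found hs ho)))
  obtain ⟨u', hu', k', hk', -⟩ := orth_spec (KTab.mem_keys_of_memKey (blt_true (orth_found hw hw')))
  have h3 := bV_sh (show 3 < 5 by norm_num)
  rw [← key_inj ((h3.map u).iPow k) hs hk] at hv
  rw [← key_inj ((h3.map u').iPow k') hw hk']
  have hfix : ∀ x ∈ genSet 6, x.1 b0 = b0 := fun x hx =>
    fix_b0 le_rfl (gen_le_fix (show 1 < 6 by norm_num) hx)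
  refine block_iPow hZ k' (block_fix (hfix u' hu') ?_)
  have := block_fix (M := M) (hfix _ (inv_mem hu)) (block_unrot hZ k hv)
  rwa [show (u⁻¹).1 (u.1 (fV 3)) = fV 3 from u.1.symm_apply_apply _] at this

theorem block_all_one {M : Subgroup fourRu} [M.Normal] {v : ruLattice} (hs : Sh16 v)
    (h1 : Sig 1 1 v) (hv : v ∈ blockSet M) {w : ruLattice} (hw : Sh16 w) (hw' : Sig 1 1 w) :
    w ∈ blockSet M := by
  have h1s := bV_sh (show 1 < 5 by norm_num)
  have hfix : ∀ x ∈ genSet 6, x.1 b0 = b0 := fun x hx =>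
    fix_b0 le_rfl (gen_le_fix (show 1 < 6 by norm_num) hx)
  obtain ⟨u, hu, e⟩ := level1.reach _ (KTab.mem_keys_of_memKey (blt_true (one_found hs h1)))
  obtain ⟨u', hu', e'⟩ := level1.reach _ (KTab.mem_keys_of_memKey (blt_true (one_found hw hw')))
  rw [← key_inj (h1s.map u) hs e] at hv
  rw [← key_inj (h1s.map u') hw e']
  refine block_fix (hfix u' hu') ?_
  have := block_fix (M := M) (hfix _ (inv_mem hu)) hv
  rwa [show (u⁻¹).1 (u.1 (fV 1)) = fV 1 from u.1.symm_apply_apply _] at this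

theorem orbit_eq : MulAction.orbit fourRu b0 = {v | Sh16 v} := by
  ext v
  exact ⟨fun ⟨u, e⟩ => e ▸ b0_sh.map u, fun hv => (exists_map hv).imp fun u e => e⟩

theorem ncard_orbit : Nat.card (MulAction.orbit fourRu b0) = 16240 := by
  rw [orbit_eq, Nat.card_coe_set_eq, ← Set.InjOn.ncard_image (s := {v : ruLattice | Sh16 v})
    (f := fun v : ruLattice => key v.1) (fun a ha b hb e => key_inj ha hb e), ← keys_nodup.2]
  refine ncard_keys keys_nodup.1 fun K => ⟨?_, fun hK => ?_⟩
  · rintro ⟨v, hv, rfl⟩; exact sFind_mem (Sh16.found hv)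
  · obtain ⟨u, -, e⟩ := reach_key hK
    exact ⟨_, b0_sh.map u, e⟩

theorem index_stab : (MulAction.stabilizer fourRu b0).index = 16240 := by
  rw [MulAction.index_stabilizer, ← Nat.card_coe_set_eq, ncard_orbit]

theorem block_dvd {M : Subgroup fourRu} [M.Normal] :
    (blockSet M).ncard ∣ 16240 ∧ (blockSet M).ncard ∣ Nat.card M := by
  have : Finite fourRu := Nat.finite_of_card_ne_zero (by rw [card_fourRu]; norm_num)
  have hB : blockSet M = MulAction.orbit M b0 := by
    ext v
    exact ⟨fun ⟨n, hn, e⟩ => ⟨⟨n, hn⟩, e⟩, fun ⟨⟨n, hn⟩, e⟩ => ⟨n, hn, e⟩⟩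
  set S := MulAction.stabilizer fourRu b0 with hS
  have hst : MulAction.stabilizer M b0 = S.subgroupOf M := by
    ext ⟨n, hn⟩; rfl
  have hcard : (blockSet M).ncard = S.relIndex M := by
    rw [hB, ← MulAction.index_stabilizer, hst]; rfl
  refine ⟨?_, ?_⟩
  · have e1 : (S ⊓ M).relIndex M * (M.relIndex (S ⊔ M) * (S ⊔ M).index) = (S ⊓ M).index := by
      rw [Subgroup.relIndex_mul_index le_sup_right, Subgroup.relIndex_mul_index inf_le_right]
    have e2 : (S ⊓ M).relIndex S * S.index = (S ⊓ M).index := Subgroup.relIndex_mul_index inf_le_left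
    rw [Subgroup.inf_relIndex_right, Subgroup.relIndex_sup_right] at e1
    rw [Subgroup.inf_relIndex_left, ← e1, index_stab] at e2
    rw [hcard]
    refine ⟨(S ⊔ M).index, Nat.eq_of_mul_eq_mul_left
      (Nat.pos_of_ne_zero (Subgroup.index_ne_zero_of_finite (H := M.subgroupOf S))) ?_⟩
    show M.relIndex S * 16240 = M.relIndex S * (S.relIndex M * (S ⊔ M).index)
    rw [e2]; ring
  · rw [hcard]
    exact Subgroup.index_dvd_card _

/-- two base vectors detect a scalar -/
noncomputable def nondeg (i j r : ℕ) : Bool :=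
  Nat.beq r 0 || !(decide (dotJ (fixP.getD i []) (fixN.getD i []) (rotPow r (bK j)) =
      dotJ (fixP.getD i []) (fixN.getD i []) (bK j)) &&
    decide (dotJ (fixPI.getD i []) (fixNI.getD i []) (rotPow r (bK j)) =
      dotJ (fixPI.getD i []) (fixNI.getD i []) (bK j)))

theorem nd01 : ∀ r < 4, nondeg 0 1 r = true := by decide +kernel

theorem nd02 : ∀ r < 4, nondeg 0 2 r = true := by decide +kernel

theorem nd13 : ∀ r < 4, nondeg 1 3 r = true := by decide +kernel

theorem nd04 : ∀ r < 4, nondeg 0 4 r = true := by decide +kernel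

theorem line_orth : ∀ k < 4, orthB (rotPow k (bK 0)) = false := by decide +kernel

theorem scalar_of_block {M : Subgroup fourRu} [hM : M.Normal]
    (h : ∀ v ∈ blockSet M, ∃ k < 4, v = iPow k b0) : M ≤ Subgroup.center fourRu := by
  intro n hn
  have line : ∀ v, Sh16 v → ∃ k < 4, n.1 v = iPow k v := by
    intro v hv
    obtain ⟨u, rfl⟩ := exists_map hv
    obtain ⟨k, hk, e⟩ := h _ ⟨u⁻¹ * n * u, by simpa using hM.conj_mem n hn u⁻¹, rfl⟩
    refine ⟨k, hk, ?_⟩
    have : u.1.symm (n.1 (u.1 b0)) = iPow k b0 := e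
    rw [Equiv.symm_apply_eq, fourRu_iPow] at this
    exact this
  obtain ⟨k, hk, e0⟩ := line b0 b0_sh
  set m : fourRu := (zI ^ k)⁻¹ * n with hm
  have hm0 : m.1 (fV 0) = fV 0 := by
    show (zI ^ k).1.symm (n.1 (fV 0)) = fV 0
    rw [fV0, e0, ← zI_pow, Equiv.symm_apply_apply]
  have hline : ∀ j < 5, ∃ r < 4, m.1 (fV j) = iPow r (fV j) := by
    intro j hj
    obtain ⟨l, hl, el⟩ := line (fV j) (bV_sh hj)
    refine ⟨(l + (4 - k)) % 4, Nat.mod_lt _ (by norm_num), ?_⟩
    show (zI ^ k).1.symm (n.1 (fV j)) = _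
    rw [el, Equiv.symm_apply_eq, ← zI_pow, ← zI_pow, ← Equiv.Perm.mul_apply, ← Subgroup.coe_mul,
      ← pow_add]
    congr 2
    rw [pow_eq_pow_iff_modEq, show orderOf zI = 4 by rw [← Nat.card_zpowers, zpowers_eq, card_center]]
    unfold Nat.ModEq; omega
  have step : ∀ i j, i < 5 → j < 5 → (∀ r < 4, nondeg i j r = true) → m.1 (fV i) = fV i →
      m.1 (fV j) = fV j := by
    intro i j hi hj hnd hfi
    obtain ⟨r, hr, er⟩ := hline j hj
    have a1 : dot (fV i).1 (iPow r (fV j)).1 = dot (fV i).1 (fV j).1 := by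
      rw [← er]
      conv_lhs => rw [← hfi]
      exact fourRu_dot m _ _
    have a2 : dot (ruI (fV i)).1 (iPow r (fV j)).1 = dot (ruI (fV i)).1 (fV j).1 := by
      rw [← er]
      conv_lhs => rw [← hfi, ← fourRu_ruI]
      exact fourRu_dot m _ _
    rw [← (dotS_fix (by omega) ((bV_sh hj).iPow r)).1, ← (dotS_fix (by omega) (bV_sh hj)).1,
      ← rotPow_key (bV_sh hj), bV_key hj] at a1
    rw [← (dotS_fix (by omega) ((bV_sh hj).iPow r)).2, ← (dotS_fix (by omega) (bV_sh hj)).2,
      ← rotPow_key (bV_sh hj), bV_key hj] at a2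
    have := hnd r hr
    simp only [nondeg, a1, a2, decide_true, Bool.and_self, Bool.not_true, Bool.or_false] at this
    rw [er, Nat.eq_of_beq_eq_true this]
    rfl
  have h1 := step 0 1 (by norm_num) (by norm_num) nd01 hm0
  have hall : ∀ j < 5, m.1 (fV j) = fV j := by
    intro j hj
    interval_cases j
    exacts [hm0, h1, step 0 2 (by norm_num) (by norm_num) nd02 hm0,
      step 1 3 (by norm_num) (by norm_num) nd13 h1, step 0 4 (by norm_num) (by norm_num) nd04 hm0]
  have hs : n = zI ^ k := eq_of_scalar fun j hj => ?_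
  · rw [hs]
    exact pow_mem_center k
  · have h2 : (zI ^ k).1.symm (n.1 (fV j)) = fV j := hall j hj
    rw [Equiv.symm_apply_eq] at h2
    rw [h2, zI_pow]

/-- the short vectors orthogonal to the first base vector -/
def orthSet : Set ruLattice := {v | Sh16 v ∧ Orth v}

/-- the scalar multiples of the first base vector -/
def lineSet : Set ruLattice := (fun k => iPow k b0) '' Set.Iio 4

theorem ncard_orth : orthSet.ncard = 7020 := by
  rw [← Set.InjOn.ncard_image (s := orthSet) (f := fun v : ruLattice => key v.1)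
    (fun a ha b hb e => key_inj ha.1 hb.1 e), ← tab_card.2.2.2.2.2.1]
  refine ncard_keys tab_card.1 fun K => ⟨?_, fun hK => ?_⟩
  · rintro ⟨v, ⟨hv, ho⟩, rfl⟩
    exact KTab.mem_keys_of_memKey (blt_true (orth_found hv ho))
  · obtain ⟨u, -, k, e, ho⟩ := orth_spec hK
    have hs := ((bV_sh (show 3 < 5 by norm_num)).map u).iPow k
    exact ⟨_, ⟨hs, (orthB_iff hs).1 (e.symm ▸ ho)⟩, e⟩

theorem ncard_line : lineSet.ncard = 4 := by
  rw [lineSet, Set.InjOn.ncard_image (s := Set.Iio 4) fun a ha b hb e => iPow_inj ha hb e, Set.ncard_eq_toFinset_card']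
  simp

theorem line_not_orth {k : ℕ} (hk : k < 4) : ¬ Orth (iPow k b0) := by
  intro h
  rw [← orthB_iff (b0_sh.iPow k), ← rotPow_key b0_sh, key_b0] at h
  rw [line_orth k hk] at h
  exact Bool.noConfusion h

/-- the dichotomy for a normal subgroup containing the centre -/
theorem center_or_transitive (M : Subgroup fourRu) [M.Normal] (hZ : Subgroup.center fourRu ≤ M) :
    M ≤ Subgroup.center fourRu ∨ 16240 ∣ Nat.card M := by
  have hsub : ∀ v ∈ blockSet M, Sh16 v := fun v ⟨n, _, e⟩ => e ▸ b0_sh.map n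
  have hline : ∀ k, iPow k b0 ∈ blockSet M := fun k =>
    block_iPow hZ k ⟨1, one_mem _, rfl⟩
  by_cases ho : ∃ v ∈ blockSet M, Orth v <;> by_cases h1 : ∃ v ∈ blockSet M, ∃ k, Sig 1 1 (iPow k v)
  · right
    obtain ⟨v, hv, hvo⟩ := ho
    obtain ⟨w, hw, k, hwk⟩ := h1
    have hB : blockSet M = MulAction.orbit fourRu b0 := by
      rw [orbit_eq]
      refine Set.Subset.antisymm hsub fun x hx => ?_
      rcases classify hx with ⟨r, -, rfl⟩ | hxo | ⟨r, hr⟩
      · exact hline r
      · exact block_all_orth hZ (hsub v hv) hvo hv hx hxo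
      · exact block_unrot hZ r (block_all_one ((hsub w hw).iPow k) hwk (block_iPow hZ k hw)
          (Sh16.iPow hx r) hr)
    have h := (block_dvd (M := M)).2
    rwa [hB, ← Nat.card_coe_set_eq, ncard_orbit] at h
  · exfalso
    obtain ⟨v, hv, hvo⟩ := ho
    have hB : blockSet M = lineSet ∪ orthSet := by
      refine Set.Subset.antisymm (fun x hx => ?_) ?_
      · rcases classify (hsub x hx) with ⟨r, hr, rfl⟩ | hxo | ⟨r, hr⟩
        · exact Or.inl ⟨r, hr, rfl⟩
        · exact Or.inr ⟨hsub x hx, hxo⟩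
        · exact absurd ⟨x, hx, r, hr⟩ h1
      · rintro x (⟨r, -, rfl⟩ | ⟨hx, hxo⟩)
        · exact hline r
        · exact block_all_orth hZ (hsub v hv) hvo hv hx hxo
    have h := (block_dvd (M := M)).1
    rw [hB, Set.ncard_union_eq ?_ (Set.finite_of_ncard_ne_zero (by rw [ncard_line]; norm_num))
      (Set.finite_of_ncard_ne_zero (by rw [ncard_orth]; norm_num)), ncard_line, ncard_orth] at h
    · norm_num at h
    · rw [Set.disjoint_left]
      rintro _ ⟨r, hr, rfl⟩ ⟨-, hro⟩
      exact line_not_orth hr hro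
  · exfalso
    obtain ⟨w, hw, k, hwk⟩ := h1
    have hB : blockSet M = MulAction.orbit fourRu b0 \ orthSet := by
      rw [orbit_eq]
      refine Set.Subset.antisymm (fun x hx => ⟨hsub x hx, fun h => ho ⟨x, hx, h.2⟩⟩) ?_
      rintro x ⟨hx, hxo⟩
      rcases classify hx with ⟨r, -, rfl⟩ | h | ⟨r, hr⟩
      · exact hline r
      · exact absurd ⟨hx, h⟩ hxo
      · exact block_unrot hZ r (block_all_one ((hsub w hw).iPow k) hwk (block_iPow hZ k hw)
          (Sh16.iPow hx r) hr)
    have h := (block_dvd (M := M)).1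
    rw [hB, Set.ncard_sdiff (fun x hx => orbit_eq ▸ hx.1)
      (Set.finite_of_ncard_ne_zero (by rw [ncard_orth]; norm_num)), ← Nat.card_coe_set_eq, ncard_orbit,
      ncard_orth] at h
    norm_num at h
  · left
    refine scalar_of_block fun x hx => ?_
    rcases classify (hsub x hx) with hl | hxo | ⟨r, hr⟩
    · exact hl
    · exact absurd ⟨x, hx, hxo⟩ ho
    · exact absurd ⟨x, hx, r, hr⟩ h1

theorem ru_simple : IsSimpleGroup Ru := by
  have hfin : Finite fourRu := Nat.finite_of_card_ne_zero (by rw [card_fourRu]; norm_num)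
  have : Nontrivial Ru := (Finite.one_lt_card_iff_nontrivial).1 (by rw [card_ru]; norm_num)
  refine ⟨fun N hN => ?_⟩
  set π := QuotientGroup.mk' (Subgroup.center fourRu) with hπ
  set M := N.comap π with hM
  have hsurj : Function.Surjective π := QuotientGroup.mk'_surjective _
  have hZ : Subgroup.center fourRu ≤ M := fun z hz => by
    rw [hM, Subgroup.mem_comap, hπ, QuotientGroup.mk'_apply, (QuotientGroup.eq_one_iff z).2 hz]
    exact one_mem _
  rcases center_or_transitive M hZ with h | h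
  · refine Or.inl (eq_bot_iff.2 fun q hq => ?_)
    obtain ⟨x, rfl⟩ := hsurj q
    rw [Subgroup.mem_bot, hπ, QuotientGroup.mk'_apply, QuotientGroup.eq_one_iff]
    exact h hq
  right
  have hidx : M.index = N.index := Subgroup.index_comap_of_surjective N hsurj
  have hN29 : ¬ 29 ∣ N.index := by
    intro h29
    have e := Subgroup.card_mul_index M
    rw [card_fourRu, hidx] at e
    obtain ⟨a, ha⟩ := h29
    obtain ⟨b, hb⟩ := h
    rw [ha, hb] at e
    have hdiv : 16240 * 29 ∣ 583704576000 := ⟨a * b, by rw [← e]; ring⟩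
    norm_num at hdiv
  have hmem : ∀ x : Ru, x ^ 29 = 1 → x ∈ N := by
    intro x hx
    rw [← QuotientGroup.eq_one_iff, ← orderOf_eq_one_iff]
    have h1 : orderOf (x : Ru ⧸ N) ∣ 29 := orderOf_dvd_of_pow_eq_one (by rw [← QuotientGroup.mk_pow, hx]; rfl)
    have h2 : orderOf (x : Ru ⧸ N) ∣ N.index := orderOf_dvd_natCard _
    rcases (Nat.dvd_prime (by norm_num : Nat.Prime 29)).1 h1 with e | e
    · exact e
    · rw [e] at h2; exact absurd h2 hN29
  have hwords : ∀ w, pow29 w = true → π (wordE w) ∈ N := fun w hw =>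
    hmem _ (by rw [← map_pow, hπ, QuotientGroup.mk'_apply, QuotientGroup.eq_one_iff]; exact (pow29_center hw).2)
  have hgen : genSet 8 ≤ M := by
    rw [genSet, Subgroup.closure_le]
    rintro _ ⟨g, hg, rfl⟩
    obtain ⟨e, he, hge⟩ := words_cover g hg
    have hok := List.all_eq_true.1 words_ok e he
    rw [Bool.and_eq_true, List.all_eq_true] at hok
    have a := hwords _ (hok.2 g hge)
    have b := hwords _ hok.1
    rw [wordE, map_mul] at a
    show π (gE g) ∈ N
    simpa using mul_mem a (inv_mem b)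
  rw [gen_top, top_le_iff] at hgen
  refine eq_top_iff.2 fun q _ => ?_
  obtain ⟨x, rfl⟩ := hsurj q
  have : x ∈ M := by rw [hgen]; trivial
  exact this

theorem ru_main : Nat.card (Subgroup.center fourRu) = 4 ∧ Nat.card Ru = 145926144000 ∧ IsSimpleGroup Ru :=
  ⟨card_center, card_ru, ru_simple⟩

end Cfsg.Agent.RuAut
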