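import Mathlib

set_option autoImplicit false

/-! Search trees sorted both by position and by key. -/

namespace Cfsg.Agent.RuAut

theorem blt_true {a b : ℕ} (h : a < b) : Nat.blt a b = true := by rw [Nat.blt_eq]; exact h

theorem lt_blt {a b : ℕ} (h : Nat.blt a b = true) : a < b := by rwa [Nat.blt_eq] at h

/-- entries: position, key, attached number -/
inductive KTab where
  | nil
  | node (idx key info : ℕ) (l r : KTab)

/-- key at a position -/
noncomputable def KTab.keyAt (t : KTab) : ℕ → ℕ :=
  KTab.rec (fun _ => 0)
    (fun i k _ _ _ lh rh n => bif Nat.blt n i then lh n else bif Nat.blt i n then rh n else k) t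

/-- attached number at a key, plus one -/
noncomputable def KTab.find (t : KTab) : ℕ → ℕ :=
  KTab.rec (fun _ => 0)
    (fun _ k v _ _ lh rh x => bif Nat.blt x k then lh x else bif Nat.blt k x then rh x else Nat.succ v) t

theorem KTab.find_nil (x : ℕ) : KTab.nil.find x = 0 := rfl

theorem KTab.find_node (i k v : ℕ) (l r : KTab) (x : ℕ) : (KTab.node i k v l r).find x =
    (bif Nat.blt x k then l.find x else bif Nat.blt k x then r.find x else v + 1) := rfl

/-- membership by key -/
noncomputable def KTab.memKey (t : KTab) (x : ℕ) : Bool := Nat.blt 0 (t.find x)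

/-- a test on all entries -/
noncomputable def KTab.all (f : ℕ → ℕ → ℕ → Bool) (t : KTab) : Bool :=
  KTab.rec true (fun i k v _ _ lh rh => f i k v && (lh && rh)) t

theorem KTab.all_node (f : ℕ → ℕ → ℕ → Bool) (i k v : ℕ) (l r : KTab) :
    (KTab.node i k v l r).all f = (f i k v && (l.all f && r.all f)) := rfl

/-- entries satisfying a test, as keys -/
def KTab.keys : KTab → List ℕ
  | .nil => []
  | .node _ k _ l r => l.keys ++ k :: r.keys

/-- number of entries -/
def KTab.size : KTab → ℕ
  | .nil => 0
  | .node _ _ _ l r => l.size + 1 + r.size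

/-- strictly increasing keys between bounds -/
def KTab.sorted : KTab → ℕ → ℕ → Bool
  | .nil, lo, hi => Nat.ble lo hi
  | .node _ k _ l r, lo, hi => l.sorted lo k && r.sorted (k + 1) hi

theorem KTab.length_keys : ∀ t : KTab, t.keys.length = t.size
  | .nil => rfl
  | .node _ _ _ l r => by
    simp only [KTab.keys, KTab.size, List.length_append, List.length_cons, KTab.length_keys l,
      KTab.length_keys r]
    omega

theorem KTab.all_spec {f : ℕ → ℕ → ℕ → Bool} : ∀ {t : KTab}, t.all f = true → ∀ {x : ℕ},
    x ∈ t.keys → ∃ i v, f i x v = true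
  | .nil, _, x, hx => by simp [KTab.keys] at hx
  | .node i k v l r, h, x, hx => by
    simp only [KTab.all_node, Bool.and_eq_true] at h
    simp only [KTab.keys, List.mem_append, List.mem_cons] at hx
    rcases hx with hx | hx | hx
    · exact KTab.all_spec h.2.1 hx
    · exact ⟨i, v, hx ▸ h.1⟩
    · exact KTab.all_spec h.2.2 hx

theorem KTab.find_all {f : ℕ → ℕ → ℕ → Bool} : ∀ {t : KTab}, t.all f = true → ∀ {x : ℕ},
    0 < t.find x → ∃ i, f i x (t.find x - 1) = true
  | .nil, _, x, hx => by simp [KTab.find_nil] at hx
  | .node i k v l r, h, x, hx => by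
    simp only [KTab.all_node, Bool.and_eq_true] at h
    rcases lt_trichotomy x k with hlt | heq | hlt
    · have e : (KTab.node i k v l r).find x = l.find x := by simp [KTab.find_node, blt_true hlt]
      rw [e] at hx ⊢; exact KTab.find_all h.2.1 hx
    · subst heq
      refine ⟨i, ?_⟩
      have : Nat.blt x x = false := by
        cases hb : Nat.blt x x
        · rfl
        · exact absurd (lt_blt hb) (lt_irrefl _)
      simpa [KTab.find_node, this] using h.1
    · have hn : Nat.blt x k = false := by
        cases hb : Nat.blt x k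
        · rfl
        · exact absurd (lt_blt hb) (not_lt.2 hlt.le)
      have e : (KTab.node i k v l r).find x = r.find x := by simp [KTab.find_node, hn, blt_true hlt]
      rw [e] at hx ⊢; exact KTab.find_all h.2.2 hx

theorem KTab.mem_keys_of_memKey : ∀ {t : KTab} {x : ℕ}, t.memKey x = true → x ∈ t.keys
  | .nil, x, h => by simp [KTab.memKey, KTab.find_nil] at h
  | .node i k v l r, x, h => by
    simp only [KTab.keys, List.mem_append, List.mem_cons]
    simp only [KTab.memKey, KTab.find_node] at h
    cases h1 : Nat.blt x k
    · cases h2 : Nat.blt k x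
      · refine Or.inr (Or.inl ?_)
        have a1 : ¬ x < k := fun hh => by simp [blt_true hh] at h1
        have a2 : ¬ k < x := fun hh => by simp [blt_true hh] at h2
        omega
      · simp only [h1, h2, cond_false, cond_true] at h
        exact Or.inr (Or.inr (KTab.mem_keys_of_memKey h))
    · simp only [h1, cond_true] at h
      exact Or.inl (KTab.mem_keys_of_memKey h)

theorem KTab.sorted_spec : ∀ {t : KTab} {lo hi : ℕ}, t.sorted lo hi = true →
    t.keys.Nodup ∧ (∀ x ∈ t.keys, lo ≤ x ∧ x < hi) ∧ lo ≤ hi
  | .nil, lo, hi, h => ⟨List.nodup_nil, by simp [KTab.keys], Nat.le_of_ble_eq_true h⟩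
  | .node _ k _ l r, lo, hi, h => by
    simp only [KTab.sorted, Bool.and_eq_true] at h
    obtain ⟨n1, b1, e1⟩ := KTab.sorted_spec h.1
    obtain ⟨n2, b2, e2⟩ := KTab.sorted_spec h.2
    refine ⟨?_, ?_, by omega⟩
    · rw [KTab.keys, List.nodup_append]
      refine ⟨n1, List.nodup_cons.2 ⟨fun hk => by have := b2 k hk; omega, n2⟩, ?_⟩
      intro a ha b hb
      have := b1 a ha
      rcases List.mem_cons.1 hb with rfl | hb
      · omega
      · have := b2 b hb; omega
    · intro x hx
      simp only [KTab.keys, List.mem_append, List.mem_cons] at hx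
      rcases hx with hx | hx | hx
      · have := b1 x hx; omega
      · subst hx; omega
      · have := b2 x hx; omega

/-- left subtree -/
def KTab.lT : KTab → KTab
  | .nil => .nil
  | .node _ _ _ l _ => l

/-- right subtree -/
def KTab.rT : KTab → KTab
  | .nil => .nil
  | .node _ _ _ _ r => r

/-- the test at the root -/
def KTab.rootOk (f : ℕ → ℕ → ℕ → Bool) : KTab → Bool
  | .nil => true
  | .node i k v _ _ => f i k v

theorem KTab.all_split {f : ℕ → ℕ → ℕ → Bool} : ∀ {t : KTab}, t.rootOk f = true →
    t.lT.all f = true → t.rT.all f = true → t.all f = true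
  | .nil, _, _, _ => rfl
  | .node _ _ _ _ _, h, hl, hr => by
    simp only [KTab.all_node, Bool.and_eq_true]; exact ⟨h, hl, hr⟩

end Cfsg.Agent.RuAut
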