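import Cfsg.Agent.RuLat.Basic
import Cfsg.Agent.RuLat.Roots
import Cfsg.Agent.RuAut.Tree

set_option autoImplicit false

/-! Packed vectors. -/

open Cfsg.Spor

namespace Cfsg.Agent.RuAut

open RuLat

/-- one coordinate of a packed vector -/
def dg (K q : ℕ) : ℤ := (((K >>> (6 * q)) &&& 63 : ℕ) : ℤ) - 32

/-- unpack -/
def vecK (K : ℕ) : RuVec := fun p => ⟨dg K (2 * code p), dg K (2 * code p + 1)⟩

/-- real coordinates -/
def co (x : RuVec) (q : ℕ) : ℤ := bif Nat.beq (q % 2) 0 then (x (idx (q / 2))).re else (x (idx (q / 2))).im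

/-- the offset -/
def offs : ℕ := ((List.range 56).map fun q => 32 * 64 ^ q).sum

/-- pack -/
def key (x : RuVec) : ℕ :=
  ∑ q ∈ Finset.range 56, (co x q + 32).toNat * 64 ^ q

theorem code_idx : ∀ k < 28, code (idx k) = k := by decide +kernel

theorem idx_code : ∀ p : RuIdx, idx (code p) = p := by decide +kernel

theorem code_lt : ∀ p : RuIdx, code p < 28 := by decide +kernel

theorem co_re (x : RuVec) (p : RuIdx) : co x (2 * code p) = (x p).re := by
  rw [co, show 2 * code p % 2 = 0 by omega, show 2 * code p / 2 = code p by omega, idx_code]; rfl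

theorem co_im (x : RuVec) (p : RuIdx) : co x (2 * code p + 1) = (x p).im := by
  rw [co, show (2 * code p + 1) % 2 = 1 by omega, show (2 * code p + 1) / 2 = code p by omega,
    idx_code]; rfl

theorem co_vecK (K : ℕ) {q : ℕ} (hq : q < 56) : co (vecK K) q = dg K q := by
  rcases Nat.mod_two_eq_zero_or_one q with h | h
  · simp only [co, h, Nat.beq, cond_true, vecK, code_idx (q / 2) (by omega)]
    rw [show 2 * (q / 2) = q by omega]
  · simp only [co, h, Nat.beq, cond_false, vecK, code_idx (q / 2) (by omega)]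
    rw [show 2 * (q / 2) + 1 = q by omega]

theorem co_ext {x y : RuVec} (h : ∀ q < 56, co x q = co y q) : x = y := by
  funext p
  have hp := code_lt p
  refine Zsqrtd.ext ?_ ?_
  · simpa [co_re] using h (2 * code p) (by omega)
  · simpa [co_im] using h (2 * code p + 1) (by omega)

theorem co_add (x y : RuVec) (q : ℕ) : co (x + y) q = co x q + co y q := by
  simp only [co]; cases Nat.beq (q % 2) 0 <;> simp

theorem co_neg (x : RuVec) (q : ℕ) : co (-x) q = -co x q := by
  simp only [co]; cases Nat.beq (q % 2) 0 <;> simp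

theorem co_zero (q : ℕ) : co 0 q = 0 := by
  simp only [co]; cases Nat.beq (q % 2) 0 <;> simp

theorem sum_range_two_mul (f : ℕ → ℤ) : ∀ n, ∑ q ∈ Finset.range (2 * n), f q =
    ∑ k ∈ Finset.range n, (f (2 * k) + f (2 * k + 1))
  | 0 => by simp
  | n + 1 => by
    rw [show 2 * (n + 1) = 2 * n + 1 + 1 by omega, Finset.sum_range_succ, Finset.sum_range_succ,
      sum_range_two_mul f n, Finset.sum_range_succ]
    ring

theorem dot_eq_co (x y : RuVec) : dot x y = ∑ q ∈ Finset.range 56, co x q * co y q := by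
  rw [show (56 : ℕ) = 2 * 28 from rfl, sum_range_two_mul]
  refine Finset.sum_nbij' code idx (fun p _ => Finset.mem_range.2 (code_lt p))
    (fun _ _ => Finset.mem_univ _) (fun p _ => idx_code p)
    (fun k hk => code_idx k (Finset.mem_range.1 hk)) fun p _ => ?_
  simp [co_re, co_im]

/-- digits of a sum -/
theorem digit_sum (B : ℕ) (hB : 0 < B) (f : ℕ → ℕ) (hf : ∀ i, f i < B) : ∀ n,
    (∑ i ∈ Finset.range n, f i * B ^ i) < B ^ n ∧
      ∀ k < n, (∑ i ∈ Finset.range n, f i * B ^ i) / B ^ k % B = f k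
  | 0 => by simp
  | n + 1 => by
    obtain ⟨h1, h2⟩ := digit_sum B hB f hf n
    have hlt : (∑ i ∈ Finset.range n, f i * B ^ i) + f n * B ^ n < B ^ (n + 1) := by
      have := Nat.mul_le_mul_right (B ^ n) (Nat.succ_le_of_lt (hf n))
      rw [Nat.succ_mul] at this
      rw [pow_succ, Nat.mul_comm (B ^ n) B]
      omega
    refine ⟨by rwa [Finset.sum_range_succ], fun k hk => ?_⟩
    rw [Finset.sum_range_succ]
    rcases Nat.lt_or_ge k n with hkn | hkn
    · obtain ⟨m, hm⟩ := Nat.exists_eq_add_of_le (Nat.succ_le_of_lt hkn)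
      have e : f n * B ^ n = B ^ k * (B * (f n * B ^ m)) := by
        rw [hm, pow_add, pow_succ]; ring
      rw [e, Nat.add_mul_div_left _ _ (pow_pos hB k), Nat.add_mul_mod_self_left, h2 k hkn]
    · obtain rfl : k = n := by omega
      rw [Nat.add_mul_div_right _ _ (pow_pos hB k), Nat.div_eq_of_lt h1, Nat.zero_add,
        Nat.mod_eq_of_lt (hf k)]

theorem dg_eq (K q : ℕ) : dg K q = ((K / 64 ^ q % 64 : ℕ) : ℤ) - 32 := by
  rw [dg, show (63 : ℕ) = 2 ^ 6 - 1 from rfl, Nat.and_two_pow_sub_one_eq_mod,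
    Nat.shiftRight_eq_div_pow, pow_mul]
  norm_num

theorem dg_bound (K q : ℕ) : -32 ≤ dg K q ∧ dg K q < 32 := by
  rw [dg_eq]
  have := Nat.mod_lt (K / 64 ^ q) (show 64 > 0 by norm_num)
  omega

theorem vecK_key {x : RuVec} (h : ∀ q < 56, -32 ≤ co x q ∧ co x q < 32) : vecK (key x) = x := by
  refine co_ext fun q hq => ?_
  rw [co_vecK _ hq, dg_eq]
  set f : ℕ → ℕ := fun i => if i < 56 then (co x i + 32).toNat else 0 with hf
  have e : key x = ∑ i ∈ Finset.range 56, f i * 64 ^ i :=
    Finset.sum_congr rfl fun i hi => by simp [hf, Finset.mem_range.1 hi]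
  have hf' : ∀ i, f i < 64 := fun i => by
    simp only [hf]; split_ifs with hi
    · have := h i hi; omega
    · norm_num
  rw [e, (digit_sum 64 (by norm_num) f hf' 56).2 q hq]
  simp only [hf, hq, if_true]
  have := h q hq
  omega

theorem key_vecK {K : ℕ} (hK : K < 64 ^ 56) : key (vecK K) = K := by
  have h1 : key (vecK K) = ∑ i ∈ Finset.range 56, K / 64 ^ i % 64 * 64 ^ i :=
    Finset.sum_congr rfl fun i hi => by
      rw [co_vecK _ (Finset.mem_range.1 hi), dg_eq]; congr 1; omega
  have : ∀ n, ∑ i ∈ Finset.range n, K / 64 ^ i % 64 * 64 ^ i = K % 64 ^ n := by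
    intro n
    induction n with
    | zero => simp [Nat.mod_one]
    | succ n ih =>
      rw [Finset.sum_range_succ, ih, Nat.mod_pow_succ]
      ring
  rw [h1, this, Nat.mod_eq_of_lt hK]

theorem co_sq_le (x : RuVec) {q : ℕ} (hq : q < 56) : co x q * co x q ≤ dot x x := by
  rw [dot_eq_co]
  exact Finset.single_le_sum (f := fun q => co x q * co x q) (fun i _ => mul_self_nonneg _)
    (Finset.mem_range.2 hq)

end Cfsg.Agent.RuAut
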